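import Cfsg.Agent.H76.CSy.Defs
import Cfsg.Agent.H20.FreeAction
import Cfsg.Agent.H17.DefectZeroInvol
import Cfsg.Agent.H65.Order459648

/-!
Character values in the semidihedral torus configuration of S4069.
-/

set_option autoImplicit false
set_option linter.unusedSectionVars false
set_option linter.style.haveILetI false

open Cfsg Subgroup
open scoped Pointwise

namespace H61.CSy

universe u

variable {G : Type u} [Group G] [Fintype G]

theorem mem_cent_single {x g : G} : g ∈ centralizer ({x} : Set G) ↔ x * g = g * x := by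
  rw [mem_centralizer_iff]
  simp

theorem orderOf_mul_dvd_cent {u : G} {g : G} (hg : g ∈ centralizer ({u} : Set G)) :
    orderOf (u * g) ∣ Nat.card (centralizer ({u} : Set G)) := by
  have hu : u ∈ centralizer ({u} : Set G) := mem_cent_single.2 rfl
  rw [← Subgroup.orderOf_mk (H := centralizer ({u} : Set G)) (u * g) (mul_mem hu hg)]
  exact orderOf_dvd_natCard _

/-- The second main theorem at an element of `2`-power order whose centralizer has order prime
to three. -/
theorem lam_two {M M₃ : Ideal AlgInt} [M.IsPrime] (hM : IsPModular 2 M) {P : Sylow 3 G}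
    (D : H76.CSy.Triple M₃ P) {ψ : (P : Subgroup G) →* ℂˣ} (hψ : ψ ≠ 1)
    (hX : D.ζ ψ ∉ principalBlock M G) {u : G} (hu : ∃ k : ℕ, orderOf u = 2 ^ k)
    (h3 : ¬ 3 ∣ Nat.card (centralizer ({u} : Set G))) :
    D.lam ∈ principalBlock M G ∧ (D.δ : ℂ) * (D.lam : G → ℂ) u = -1 := by
  classical
  haveI : Fintype (centralizer ({u} : Set G)) := Fintype.ofFinite _
  let κ : IrrCharacter G → ℂ := fun ζ => (if ζ = H12.oneIrr G then 1 else 0) +
    ((if ζ = D.lam then (D.δ : ℂ) else 0) + (if ζ = D.ζ ψ then -(D.ε : ℂ) else 0))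
  have h : ∀ c : centralizer ({u} : Set G), ¬ 2 ∣ orderOf c →
      ∑ ζ : IrrCharacter G, κ ζ * (ζ : G → ℂ) (u * (c : G)) = 0 := by
    intro c _
    have hrel := D.rel ψ hψ (u * (c : G))
      (fun hd => h3 (hd.trans (orderOf_mul_dvd_cent c.2)))
    simp only [κ, add_mul, ite_mul, zero_mul, Finset.sum_add_distrib, Finset.sum_ite_eq',
      Finset.mem_univ, if_true, H12.oneIrr_apply, one_mul]
    linear_combination hrel
  have h1 : H12.oneIrr G ∈ principalBlock M G := H20.mem_blockOf_self (H12.oneIrr G)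
  have hsum := H20.principal_section_zero hM hu κ h 1 (by simp)
  rw [H20.finsum_mem_eq_sum_ite, OneMemClass.coe_one, mul_one] at hsum
  rw [← Finset.sum_filter] at hsum
  simp only [κ, add_mul, ite_mul, zero_mul, Finset.sum_add_distrib, Finset.sum_ite_eq',
    Finset.mem_filter, Finset.mem_univ, true_and, if_pos h1, if_neg hX, H12.oneIrr_apply,
    one_mul, add_zero] at hsum
  by_cases hl : D.lam ∈ principalBlock M G
  · rw [if_pos hl] at hsum
    exact ⟨hl, by linear_combination hsum⟩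
  · rw [if_neg hl, add_zero] at hsum
    exact absurd hsum one_ne_zero

/-- The signed degree and the value at the involution in a cyclic two-group of order `2 * N`
with the value `-1` at all elements of order above two. -/
theorem zpowers_congr (χ : IrrCharacter G) {c t : G} {n : ℕ} {δ a : ℤ} (hn : 2 ≤ n)
    (hc : orderOf c = 2 ^ n) (ht : c ^ 2 ^ (n - 1) = t) (ha : (δ : ℂ) * (χ : G → ℂ) t = (a : ℂ))
    (hval : ∀ u : G, u ∈ zpowers c → (∃ k : ℕ, 2 ≤ k ∧ orderOf u = 2 ^ k) →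
      (δ : ℂ) * (χ : G → ℂ) u = -1) :
    (2 : ℤ) ^ n ∣ δ * (charDegree (χ : G → ℂ) : ℤ) + a + 2 := by
  classical
  obtain ⟨z, hz⟩ := H65.O459648.sum_zpowers_dvd (H12.isCharacter_irr χ) (w := c)
  rw [hc] at hz
  have hN : 2 ^ (n - 1) < 2 ^ n := Nat.pow_lt_pow_right one_lt_two (by omega)
  have h2N : 2 * 2 ^ (n - 1) = 2 ^ n := by
    rw [← pow_succ']; congr 1; omega
  have hN0 : 2 ^ (n - 1) ≠ 0 := by positivity
  have key : ∀ i ∈ Finset.range (2 ^ n), (δ : ℂ) * (χ : G → ℂ) (c ^ i) =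
      (if i = 0 then ((δ * (charDegree (χ : G → ℂ) : ℤ) + 1 : ℤ) : ℂ) else 0) +
      ((if i = 2 ^ (n - 1) then ((a + 1 : ℤ) : ℂ) else 0) + (-1 : ℂ)) := by
    intro i hi
    rw [Finset.mem_range] at hi
    by_cases h0 : i = 0
    · subst h0
      rw [if_pos rfl, if_neg (Ne.symm hN0), pow_zero, H24.irr_one]
      push_cast
      ring
    by_cases h1 : i = 2 ^ (n - 1)
    · subst h1
      rw [if_neg h0, if_pos rfl, ht, ha]
      push_cast
      ring
    rw [if_neg h0, if_neg h1, zero_add, zero_add]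
    refine hval _ (npow_mem_zpowers c i) ?_
    obtain ⟨k, -, hk⟩ := (Nat.dvd_prime_pow Nat.prime_two).1
      ((hc ▸ orderOf_pow_dvd i : orderOf (c ^ i) ∣ 2 ^ n))
    refine ⟨k, ?_, hk⟩
    by_contra hk2
    have hk' : (c ^ i) ^ 2 = 1 := by
      rw [← orderOf_dvd_iff_pow_eq_one, hk]
      exact (show 2 ^ k ∣ 2 ^ 1 from pow_dvd_pow 2 (by omega)).trans (by norm_num)
    rw [← pow_mul] at hk'
    have hd := orderOf_dvd_of_pow_eq_one hk'
    rw [hc, ← h2N, mul_comm i 2] at hd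
    obtain ⟨w, rfl⟩ := Nat.dvd_of_mul_dvd_mul_left two_pos hd
    rcases Nat.lt_or_ge w 2 with hw | hw
    · interval_cases w
      · exact h0 (mul_zero _)
      · exact h1 (mul_one _)
    · have : 2 ^ (n - 1) * 2 ≤ 2 ^ (n - 1) * w := Nat.mul_le_mul_left _ hw
      omega
  have hs := Finset.sum_congr rfl key
  rw [← Finset.mul_sum, hz, Finset.sum_add_distrib, Finset.sum_add_distrib, Finset.sum_ite_eq',
    Finset.sum_ite_eq', if_pos (Finset.mem_range.2 (by positivity)),
    if_pos (Finset.mem_range.2 hN), Finset.sum_const, Finset.card_range, nsmul_eq_mul] at hs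
  push_cast at hs
  have hs' : (((δ * (z : ℤ) + 1) * 2 ^ n : ℤ) : ℂ) =
      ((δ * (charDegree (χ : G → ℂ) : ℤ) + a + 2 : ℤ) : ℂ) := by
    push_cast
    linear_combination hs
  exact ⟨δ * (z : ℤ) + 1, by rw [← Int.cast_inj.1 hs']; ring⟩

/-- Conjugation by `R` moves `t * d` over the whole coset `t * R * d`. -/
theorem sum_coset_eq {χ : G → ℂ} (hχ : IsClassFunction G χ) {R : Subgroup G} [Fintype R]
    {t d : G} (htR : ∀ ρ ∈ R, t * ρ = ρ * t) (hd : ∀ ρ ∈ R, d * ρ * d⁻¹ ∈ R)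
    (hfix : ∀ ρ ∈ R, ρ ≠ 1 → ρ * d ≠ d * ρ) :
    ∑ ρ : R, χ (t * ((ρ : G) * d)) = (Fintype.card R : ℂ) * χ (t * d) := by
  let f : R → R := fun ρ => ρ * ⟨d * ((ρ : G)⁻¹) * d⁻¹, hd _ (R.inv_mem ρ.2)⟩
  have hf : Function.Injective f := by
    intro x y e
    have e' : (x : G) * (d * (x : G)⁻¹ * d⁻¹) = (y : G) * (d * (y : G)⁻¹ * d⁻¹) :=
      congrArg (fun ρ : R => (ρ : G)) e
    by_contra hne
    refine hfix ((y : G)⁻¹ * x) (R.mul_mem (R.inv_mem y.2) x.2)
      (fun h => hne (Subtype.ext (inv_mul_eq_one.1 h).symm)) ?_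
    calc (y : G)⁻¹ * x * d = (y : G)⁻¹ * ((x : G) * (d * (x : G)⁻¹ * d⁻¹)) * d * x := by group
      _ = (y : G)⁻¹ * ((y : G) * (d * (y : G)⁻¹ * d⁻¹)) * d * x := by rw [e']
      _ = d * ((y : G)⁻¹ * x) := by group
  have hval : ∀ ρ : R, χ (t * ((f ρ : G) * d)) = χ (t * d) := by
    intro ρ
    have : t * ((f ρ : G) * d) = (ρ : G) * (t * d) * (ρ : G)⁻¹ := by
      simp only [f, Subgroup.coe_mul]
      rw [show t * ((ρ : G) * (d * (ρ : G)⁻¹ * d⁻¹) * d) = t * (ρ : G) * d * (ρ : G)⁻¹ by group,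
        htR _ ρ.2]
      group
    rw [this, hχ]
  rw [← Function.Bijective.sum_comp (Finite.injective_iff_bijective.1 hf)
    (fun ρ : R => χ (t * ((ρ : G) * d))), Finset.sum_congr rfl fun ρ _ => hval ρ,
    Finset.sum_const, Finset.card_univ, nsmul_eq_mul]

/-- The part of a class function on `R * T₀`. -/
theorem sum_sup_eq {R T₀ : Subgroup G} (hn : T₀ ≤ normalizer (R : Set G))
    (hc : (Nat.card R).Coprime (Nat.card T₀)) [Fintype R] [Fintype T₀] (f : G → ℂ) :
    (∑ᶠ w : (R ⊔ T₀ : Subgroup G), f (w : G) = ∑ d : T₀, ∑ ρ : R, f ((ρ : G) * (d : G))) ∧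
      Nat.card (R ⊔ T₀ : Subgroup G) = Nat.card R * Nat.card T₀ := by
  classical
  let g : T₀ × R → (R ⊔ T₀ : Subgroup G) := fun x =>
    ⟨(x.2 : G) * (x.1 : G), mul_mem (le_sup_left (b := T₀) x.2.2) (le_sup_right (a := R) x.1.2)⟩
  have hdisj : Disjoint R T₀ := disjoint_iff.2 (Subgroup.inf_eq_bot_of_coprime hc)
  have hg : Function.Bijective g := by
    constructor
    · rintro ⟨a, b⟩ ⟨a', b'⟩ e
      have := Subgroup.mul_injective_of_disjoint hdisj
        (a₁ := (b, a)) (a₂ := (b', a')) (congrArg Subtype.val e)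
      simp only [Prod.mk.injEq] at this
      simp [this.1, this.2]
    · rintro ⟨w, hw⟩
      have hw' : w ∈ ((R : Set G) * (T₀ : Set G)) := by
        rw [← Subgroup.coe_mul_of_right_le_normalizer_left R T₀ hn]; exact hw
      obtain ⟨x, hx, y, hy, rfl⟩ := Set.mem_mul.1 hw'
      exact ⟨(⟨y, hy⟩, ⟨x, hx⟩), rfl⟩
  refine ⟨?_, ?_⟩
  · haveI : Fintype (R ⊔ T₀ : Subgroup G) := Fintype.ofFinite _
    rw [finsum_eq_sum_of_fintype, ← Fintype.sum_prod_type',
      ← Function.Bijective.sum_comp hg]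
  · rw [← Nat.card_congr (Equiv.ofBijective g hg), Nat.card_prod, mul_comm]

end H61.CSy
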