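import Cfsg.Agent.H61.CSy.TorusArith
import Cfsg.Agent.H61.CSy.TorusChars

/-!
The torus configuration of S4069 does not occur.
-/

set_option autoImplicit false
set_option linter.unusedSectionVars false
set_option linter.style.haveILetI false

open Cfsg Subgroup

namespace H61.CSy

universe u

variable {G : Type u} [Group G] [Finite G]

/-- A group of order `480240` has no Sylow 23-subgroup with the required centralizer. -/
theorem no_sylow_twentythree (hG : Nat.card G = 480240)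
    (hsep : ∀ g : G, 23 ∣ orderOf g → (orderOf g).Coprime 240) :
    False := by
  classical
  haveI : Fact (Nat.Prime 23) := ⟨by norm_num⟩
  let Q : Sylow 23 G := default
  have hQ : Nat.card (Q : Subgroup G) = 23 := by
    rw [Sylow.card_eq_multiplicity, hG,
      show (480240 : ℕ) = 23 * 20880 by norm_num, Nat.factorization_mul (by norm_num) (by norm_num)]
    rw [Finsupp.add_apply, Nat.Prime.factorization_self (by norm_num),
      Nat.factorization_eq_zero_of_not_dvd (show ¬ 23 ∣ 20880 by norm_num)]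
    norm_num
  haveI : IsCyclic (Q : Subgroup G) := isCyclic_of_prime_card hQ
  let C := centralizer ((Q : Subgroup G) : Set G)
  let N := normalizer ((Q : Subgroup G) : Set G)
  have hQC : (Q : Subgroup G) ≤ C := fun g hg => by
    refine mem_centralizer_iff.2 fun h hh => ?_
    exact congrArg Subtype.val (mul_comm' (⟨h, hh⟩ : (Q : Subgroup G)) ⟨g, hg⟩)
  obtain ⟨g, hgQ⟩ := IsCyclic.exists_ofOrder_eq_natCard (α := (Q : Subgroup G))
  have hg : orderOf (g : G) = 23 := by rw [Subgroup.orderOf_coe, hgQ, hQ]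
  have hcop : (Nat.card C).Coprime 240 := by
    refine Nat.coprime_of_dvd fun q hq hqC hq2 => ?_
    haveI := Fact.mk hq
    obtain ⟨z, hz⟩ := exists_prime_orderOf_dvd_card' q hqC
    have hcomm : Commute (g : G) (z : G) := mem_centralizer_iff.1 z.2 g g.2
    have hne : q ≠ 23 := fun h => by rw [h] at hq2; norm_num at hq2
    have hzG : orderOf (z : G) = q := by rw [Subgroup.orderOf_coe, hz]
    have ho : orderOf ((g : G) * (z : G)) = 23 * q := by
      rw [hcomm.orderOf_mul_eq_mul_orderOf_of_coprime (by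
        rw [hg, hzG]; exact (Nat.coprime_primes (by norm_num) hq).2 (Ne.symm hne)), hg, hzG]
    have := hsep ((g : G) * (z : G)) (ho ▸ dvd_mul_right 23 q)
    rw [ho] at this
    exact hq.ne_one (Nat.eq_one_of_dvd_coprimes this (dvd_mul_left q 23) hq2)
  have hC1 : Nat.card C ∣ 667 := by
    have h := hG ▸ card_subgroup_dvd_card C
    rw [show (480240 : ℕ) = 240 * 2001 by norm_num] at h
    have h2 := hcop.dvd_of_dvd_mul_left h
    rw [show (2001 : ℕ) = 3 * 667 by norm_num] at h2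
    exact (hcop.coprime_dvd_right (show 3 ∣ 240 by norm_num)).dvd_of_dvd_mul_left h2
  have hC2 : 23 ∣ Nat.card C := hQ ▸ card_dvd_of_le hQC
  have hCN : C ≤ N := centralizer_le_normalizer _
  haveI : Fintype G := Fintype.ofFinite G
  have hrel : C.relIndex N ∣ 22 := by
    have h := card_subgroup_dvd_card (H20.autG (Q : Subgroup G))
    rw [H20.card_autG, IsCyclic.card_mulAut, hQ, Nat.totient_prime (by norm_num)] at h
    exact h
  have hmul : Nat.card C * C.relIndex N * N.index = 480240 := by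
    rw [mul_assoc, relIndex_mul_index hCN, C.card_mul_index, hG]
  have hn : N.index % 23 = 1 := by
    have := card_sylow_modEq_one 23 G
    rw [Sylow.card_eq_index_normalizer Q] at this
    exact this
  have hC : Nat.card C = 23 ∨ Nat.card C = 667 := by
    obtain ⟨w, hw⟩ := hC2
    have hw29 : w ∣ 29 := by
      rw [hw, show (667 : ℕ) = 23 * 29 by norm_num] at hC1
      exact Nat.dvd_of_mul_dvd_mul_left (by norm_num) hC1
    rcases (Nat.dvd_prime (by norm_num)).1 hw29 with rfl | rfl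
    · left; omega
    · right; omega
  have hR : C.relIndex N ∈ Nat.divisors 22 := Nat.mem_divisors.2 ⟨hrel, by norm_num⟩
  rw [show Nat.divisors 22 = {1, 2, 11, 22} by decide] at hR
  simp only [Finset.mem_insert, Finset.mem_singleton] at hR
  rcases hC with hC | hC <;> rcases hR with hR | hR | hR | hR <;>
    · rw [hC, hR] at hmul
      omega

/-- The torus configuration of S4069 does not occur. -/
theorem torusKill (hTriple : H76.CSy.TripleStmt.{u}) (hCount : H76.CSy.CountStmt.{u})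
    (hRank : H76.CSy.RankStmt.{u}) (hOrbit : H76.CSy.OrbitStmt.{u})
    (hBorel : H76.CSy.BorelMeanStmt.{u}) : H76.CSy.TorusKillStmt.{u} := by
  intro G _ _ _ D
  classical
  haveI : Fintype G := Fintype.ofFinite G
  haveI : Fact (Nat.Prime 3) := ⟨Nat.prime_three⟩
  obtain ⟨M, hM⟩ := H22.exists_isPModular 2 Nat.prime_two
  obtain ⟨M₃, hM₃⟩ := H22.exists_isPModular 3 Nat.prime_three
  haveI := H20.isPrime_of_modular hM
  obtain ⟨X⟩ := hTriple G 3 M₃ hM₃ (by norm_num) D.P D.cyc D.relIndex_two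
  obtain ⟨a, ha, hb0, hb1, -, h3a, hcount⟩ :=
    hCount G 3 M₃ hM₃ (by norm_num) D.P D.cyc X D.t D.y D.t_ord D.one D.y_mem D.y_ord
  have h3a : (3 : ℤ) ∣ a - 1 := h3a D.comm
  -- numbers
  have hr := D.hr
  have hr5 := D.hr5
  have hn := D.hn
  have hη2 : D.η * D.η = 1 := by rcases D.hη with h | h <;> rw [h] <;> norm_num
  have hr1 : 1 ≤ D.r ^ 2 := Nat.one_le_pow _ _ hr.pos
  have hctZ : (Nat.card (centralizer ({D.t} : Set G)) : ℤ) =
      2 * (D.r : ℤ) * ((D.r : ℤ) + D.η) * ((D.r : ℤ) - D.η) := by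
    rw [D.card_ct]
    push_cast [Nat.cast_sub hr1]
    linear_combination (2 * (D.r : ℤ)) * hη2
  obtain ⟨m, M', hm, hmr, hM'm, hM'⟩ := D.class_mod
  have hT0 : 0 < D.T := D.T_odd.pos
  have hm0 : m ≠ 0 := fun h => by rw [h, mul_zero] at hm; exact Nat.card_pos.ne' hm
  have hct0 : Nat.card (centralizer ({D.t} : Set G)) ≠ 0 := Nat.card_pos.ne'
  have hrm : ¬ D.r ∣ m := fun h => by
    refine (hM' D.r hr (Nat.dvd_of_mod_eq_zero ?_)).1 ?_
    · rw [← hmr]; exact Nat.mod_eq_zero_of_dvd h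
    · rw [D.card_ct]; exact (dvd_mul_left D.r 2).mul_right _
  have hr0' : (D.r : ℤ) ≠ 0 := by exact_mod_cast hr.ne_zero
  have hrη1 : (D.r : ℤ) + D.η ≠ 0 := by rcases D.hη with h | h <;> rw [h] <;> omega
  have hrη2 : (D.r : ℤ) - D.η ≠ 0 := by rcases D.hη with h | h <;> rw [h] <;> omega
  have heq : (m : ℤ) * (X.b - a) ^ 2 =
      3 * ((D.r : ℤ) * ((D.r : ℤ) + D.η)) * ((D.r : ℤ) - D.η) ^ 2 * (X.b * (X.b + 1)) := by
    rw [hm, D.card_cy, D.inv_count] at hcount
    push_cast at hcount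
    rw [hctZ] at hcount
    apply mul_left_cancel₀ (show (2 * (D.r : ℤ) * ((D.r : ℤ) + D.η) * ((D.r : ℤ) - D.η)) *
      (12 * (D.T : ℤ)) ≠ 0 by
        refine mul_ne_zero (mul_ne_zero (mul_ne_zero (mul_ne_zero ?_ ?_) hrη1) hrη2) ?_ <;> omega)
    linear_combination hcount - ((2 * (D.r : ℤ) * ((D.r : ℤ) + D.η) * ((D.r : ℤ) - D.η)) ^ 2 *
      ((D.T : ℤ) * (X.b * (X.b + 1)))) * 18 * D.hT
  -- the exceptional character outside the principal 2-block
  have h7 : 7 ≤ Nat.card (D.P : Subgroup G) := by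
    rw [D.card_P]
    have h1 : 0 < D.T.factorization 3 :=
      Nat.Prime.factorization_pos_of_dvd Nat.prime_three hT0.ne' D.T_three
    calc 7 ≤ 3 * 3 ^ 1 := by norm_num
      _ ≤ _ := Nat.mul_le_mul_left _ (Nat.pow_le_pow_right (by norm_num) h1)
  obtain ⟨ψ, hψ, hX⟩ := hOrbit G 3 M M₃ hM hM₃ (by norm_num) D.P D.cyc X h7
    (hRank G M hM D.S (Or.inr D.qd))
  have hcord : ∃ k : ℕ, 2 ≤ k ∧ orderOf D.c = 2 ^ k := ⟨D.n - 1, by omega, D.c_ord⟩
  have hlam : X.lam ∈ principalBlock M G :=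
    (lam_two hM X hψ hX ⟨_, D.c_ord⟩ (D.three_prime D.c hcord)).1
  have hdeg : (X.lam : G → ℂ) 1 = (charDegree (X.lam : G → ℂ) : ℂ) := H24.irr_one _
  have hdiv : (2 : ℤ) ^ (D.n - 1) ∣ X.b + a + 2 :=
    zpowers_congr X.lam (by omega) D.c_ord
      (by rw [show D.n - 1 - 1 = D.n - 2 by omega]; exact D.c_pow) ha
      (fun u _ hu => (lam_two hM X hψ hX ⟨hu.choose, hu.choose_spec.2⟩ (D.three_prime u hu)).2)
  -- the Borel subgroup
  haveI : Fintype D.R := Fintype.ofFinite _
  haveI : Fintype D.T₀ := Fintype.ofFinite _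
  obtain ⟨hmean0, hmean⟩ := hBorel G M hM D.t D.g₀ D.B D.R D.T₀ D.r D.t_ord hr (by omega)
    D.B_le D.t_mem_B D.R_le D.T₀_le D.card_R D.T₀_odd D.B_normR D.B_normH D.H_index D.B_ab
    D.T₀_fpf D.B_index D.two_trans D.g₀_mem D.g₀_notMem D.g₀_inv D.cent_d D.fix_d
  have htB : ∀ w ∈ D.B, D.t * w = w * D.t := fun w hw => mem_cent_single.1 (D.B_le hw)
  have hδ : (X.δ : ℂ) * (X.δ : ℂ) = 1 := by rcases X.δ_eq with h | h <;> rw [h] <;> norm_num
  -- the prime `r` and the values at `t * R`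
  have hrG : (Nat.card G).factorization D.r = 1 := by
    have h2 : ¬ D.r ∣ 2 * (D.r ^ 2 - 1) := fun h => by
      rcases hr.dvd_mul.1 h with h | h
      · have := Nat.le_of_dvd two_pos h; omega
      · have h' : D.r ∣ D.r ^ 2 - (D.r ^ 2 - 1) := Nat.dvd_sub (dvd_pow_self _ two_ne_zero) h
        rw [show D.r ^ 2 - (D.r ^ 2 - 1) = 1 by omega] at h'
        exact hr.not_dvd_one h'
    rw [hm, Nat.factorization_mul hct0 hm0, Finsupp.add_apply,
      Nat.factorization_eq_zero_of_not_dvd hrm, D.card_ct,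
      show 2 * D.r * (D.r ^ 2 - 1) = D.r * (2 * (D.r ^ 2 - 1)) by ring,
      Nat.factorization_mul hr.ne_zero (fun h => h2 (by rw [h]; exact dvd_zero _)), Finsupp.add_apply,
      hr.factorization_self, Nat.factorization_eq_zero_of_not_dvd h2]
  have hrb : (D.r : ℤ) ∣ X.b * (X.b + 1) := by
    have hp : Prime (D.r : ℤ) := Nat.prime_iff_prime_int.1 hr
    have hd : (D.r : ℤ) ∣ (X.b - a) ^ 2 := by
      refine (hp.dvd_mul.1 (show (D.r : ℤ) ∣ (m : ℤ) * (X.b - a) ^ 2 from
        ⟨3 * ((D.r : ℤ) + D.η) * ((D.r : ℤ) - D.η) ^ 2 * (X.b * (X.b + 1)),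
          by rw [heq]; ring⟩)).resolve_left ?_
      exact fun h => hrm (Int.natCast_dvd_natCast.1 h)
    obtain ⟨w, hw⟩ := hp.dvd_of_dvd_pow hd
    have h1 : (D.r : ℤ) ∣ (3 * ((D.r : ℤ) + D.η) * ((D.r : ℤ) - D.η) ^ 2) * (X.b * (X.b + 1)) :=
      ⟨(m : ℤ) * w ^ 2, mul_left_cancel₀ hr0' (by rw [hw] at heq; linear_combination -heq)⟩
    refine (hp.dvd_mul.1 h1).resolve_left fun h => ?_
    have h8 : ∀ x : ℤ, x.natAbs ≤ 3 → x ≠ 0 → ¬ (D.r : ℤ) ∣ x := fun x hx hx0 hd' => by
      have := Nat.le_of_dvd (Int.natAbs_pos.2 hx0) (Int.natCast_dvd.1 hd')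
      omega
    rcases hp.dvd_mul.1 h with h | h
    · rcases hp.dvd_mul.1 h with h | h
      · exact h8 3 (by norm_num) (by norm_num) h
      · have := Int.dvd_sub h (dvd_refl (D.r : ℤ))
        rw [add_sub_cancel_left] at this
        rcases D.hη with e | e <;> rw [e] at this <;> exact h8 _ (by norm_num) (by norm_num) this
    · have := Int.dvd_sub (dvd_refl (D.r : ℤ)) (hp.dvd_of_dvd_pow h)
      rw [sub_sub_cancel] at this
      rcases D.hη with e | e <;> rw [e] at this <;> exact h8 _ (by norm_num) (by norm_num) this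
  have htρ : ∀ ρ : D.R, ρ ≠ 1 → orderOf (D.t * (ρ : G)) = 2 * D.r := fun ρ hρ => by
    have ho : orderOf (ρ : G) = D.r := by
      rw [Subgroup.orderOf_coe]
      exact ((Nat.dvd_prime hr).1 (D.card_R ▸ orderOf_dvd_natCard ρ)).resolve_left
        (fun h => hρ (orderOf_eq_one_iff.1 h))
    rw [(show Commute D.t (ρ : G) from htB _ (D.R_le ρ.2)).orderOf_mul_eq_mul_orderOf_of_coprime
      (by rw [D.t_ord, ho]; exact (Nat.coprime_primes Nat.prime_two hr).2 (by omega)), D.t_ord, ho]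
  obtain ⟨e, he, hval⟩ : ∃ e : ℤ, (e = 0 ∨ e = -1) ∧
      ∀ ρ : D.R, ρ ≠ 1 → (X.δ : ℂ) * (X.lam : G → ℂ) (D.t * (ρ : G)) = (e : ℂ) := by
    rcases (Nat.prime_iff_prime_int.1 hr).dvd_mul.1 hrb with h | h
    · refine ⟨0, Or.inl rfl, fun ρ hρ => ?_⟩
      have hd : D.r ∣ charDegree (X.lam : G → ℂ) := by
        rw [H76.CSy.Triple.b] at h
        rcases X.δ_eq with e | e <;> rw [e] at h <;> simpa [Int.natCast_dvd_natCast] using h
      rw [H17.DefZero.vanish X.lam hr (by rw [hrG, pow_one]; exact hd)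
        (htρ ρ hρ ▸ dvd_mul_left D.r 2)]
      simp
    · refine ⟨-1, Or.inr rfl, fun ρ hρ => ?_⟩
      have h1 := X.rel ψ hψ 1 (by rw [orderOf_one]; norm_num)
      rw [hdeg, H24.irr_one] at h1
      have h1' : X.b + 1 = X.ε * (charDegree (X.ζ ψ : G → ℂ) : ℤ) := by
        have : ((X.b + 1 : ℤ) : ℂ) = ((X.ε * (charDegree (X.ζ ψ : G → ℂ) : ℤ) : ℤ) : ℂ) := by
          rw [H76.CSy.Triple.b]; push_cast; linear_combination h1
        exact_mod_cast this
      have hd : D.r ∣ charDegree (X.ζ ψ : G → ℂ) := by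
        rw [h1'] at h
        rcases X.ε_eq with e | e <;> rw [e] at h <;> simpa [Int.natCast_dvd_natCast] using h
      have h2 := X.rel ψ hψ (D.t * (ρ : G)) (by
        rw [htρ ρ hρ]
        intro h
        have := (Nat.prime_dvd_prime_iff_eq Nat.prime_three hr).1
          ((Nat.prime_three.dvd_mul.1 h).resolve_left (by norm_num))
        omega)
      rw [H17.DefZero.vanish (X.ζ ψ) hr (by rw [hrG, pow_one]; exact hd)
        (htρ ρ hρ ▸ dvd_mul_left D.r 2), mul_zero] at h2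
      push_cast
      linear_combination h2
  obtain ⟨A, hA⟩ : ∃ A : ℂ, A = ∑ ρ : D.R, (X.δ : ℂ) * (X.lam : G → ℂ) (D.t * (ρ : G)) :=
    ⟨_, rfl⟩
  have hcardR : Fintype.card D.R = D.r := by rw [← Nat.card_eq_fintype_card]; exact D.card_R
  have hA1 : A = (a : ℂ) + ((D.r : ℂ) - 1) * (e : ℂ) := by
    rw [hA, ← Finset.add_sum_erase _ _ (Finset.mem_univ (1 : D.R)), OneMemClass.coe_one, mul_one,
      ha, Finset.sum_congr rfl fun ρ hρ => hval ρ (Finset.ne_of_mem_erase hρ), Finset.sum_const,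
      Finset.card_erase_of_mem (Finset.mem_univ _), Finset.card_univ, hcardR, nsmul_eq_mul,
      Nat.cast_sub hr.one_le, Nat.cast_one]
  have hmeanA : ∀ d ∈ D.T₀, d ≠ 1 →
      A = (D.r : ℂ) * ((X.δ : ℂ) * (X.lam : G → ℂ) (D.t * d)) := fun d hd hd1 => by
    rw [hA, ← Finset.mul_sum, ← finsum_eq_sum_of_fintype, hmean X.lam hlam d hd hd1]
    ring
  have hA2 : A = (D.η : ℂ) * (D.r : ℂ) := by
    rcases D.hη with hη | hη
    · have hy1 : D.y ≠ 1 := fun h => by
        have := D.y_ord; rw [h, orderOf_one] at this; norm_num at this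
      rw [hmeanA D.y (D.T₀_y hη) hy1, X.lam_sing _ (by
        rw [D.comm.orderOf_mul_eq_mul_orderOf_of_coprime (by rw [D.t_ord, D.y_ord]; norm_num),
          D.t_ord, D.y_ord]
        norm_num), hδ, hη]
      simp
    · have hn' : D.T₀ ≤ normalizer (D.R : Set G) := D.T₀_le.trans D.B_normR
      have hcT : Nat.card D.T₀ = D.T' := by rw [D.card_T₀, if_neg (by rw [hη]; norm_num)]
      have hT'r : 2 ^ (D.n - 2) * D.T' + 1 = D.r := by
        have := D.hT'
        rw [hη] at this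
        have h' : (((2 ^ (D.n - 2) * D.T' + 1 : ℕ)) : ℤ) = (D.r : ℤ) := by push_cast; linarith
        exact_mod_cast h'
      have hcop : (Nat.card D.R).Coprime (Nat.card D.T₀) := by
        rw [D.card_R, hcT, hr.coprime_iff_not_dvd]
        intro h
        have h1 := Nat.le_of_dvd D.T'_odd.pos h
        have h2 : D.T' ≤ 2 ^ (D.n - 2) * D.T' := Nat.le_mul_of_pos_left _ (by positivity)
        omega
      have h3T' : ¬ 3 ∣ D.T' := fun h => by
        obtain ⟨w, hw⟩ := D.T_three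
        obtain ⟨w', hw'⟩ := h
        have h1 := D.hT
        rw [hη] at h1
        have h2 : D.r + 1 = 2 * D.T := by omega
        rw [hw', mul_left_comm] at hT'r
        omega
      obtain ⟨hsum, hcard⟩ := sum_sup_eq hn' hcop
        (fun w => (X.ε : ℂ) * (X.ζ ψ : G → ℂ) (D.t * w))
      have h0 : ∑ᶠ w : (D.R ⊔ D.T₀ : Subgroup G), (X.ε : ℂ) * (X.ζ ψ : G → ℂ) (D.t * (w : G)) =
          0 := by
        haveI : Fintype (D.R ⊔ D.T₀ : Subgroup G) := Fintype.ofFinite _
        rw [finsum_eq_sum_of_fintype, ← Finset.mul_sum, ← finsum_eq_sum_of_fintype,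
          hmean0 _ hX, mul_zero]
      rw [h0] at hsum
      have hterm : ∀ d : D.T₀, ∑ ρ : D.R, (X.ε : ℂ) * (X.ζ ψ : G → ℂ) (D.t * ((ρ : G) * (d : G))) =
          (D.r : ℂ) + A := by
        intro d
        have hrel : ∀ ρ : D.R, (X.ε : ℂ) * (X.ζ ψ : G → ℂ) (D.t * ((ρ : G) * (d : G))) =
            1 + (X.δ : ℂ) * (X.lam : G → ℂ) (D.t * ((ρ : G) * (d : G))) := fun ρ => by
          refine (X.rel ψ hψ _ fun h3 => ?_).symm
          have hw : (ρ : G) * (d : G) ∈ D.R ⊔ D.T₀ :=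
            mul_mem (mem_sup_left ρ.2) (mem_sup_right d.2)
          have h4 : orderOf (D.t * ((ρ : G) * (d : G))) ∣ 2 * (D.r * D.T') := by
            refine (Commute.orderOf_mul_dvd_mul_orderOf (htB _ (D.B.mul_mem (D.R_le ρ.2)
              (D.T₀_le d.2)))).trans ?_
            rw [D.t_ord]
            refine Nat.mul_dvd_mul_left 2 ?_
            rw [← Subgroup.orderOf_mk (H := D.R ⊔ D.T₀) _ hw, ← D.card_R, ← hcT, ← hcard]
            exact orderOf_dvd_natCard _
          rcases Nat.prime_three.dvd_mul.1 (h3.trans h4) with h | h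
          · norm_num at h
          rcases Nat.prime_three.dvd_mul.1 h with h | h
          · have := (Nat.prime_dvd_prime_iff_eq Nat.prime_three hr).1 h; omega
          · exact h3T' h
        rw [Finset.sum_congr rfl fun ρ _ => hrel ρ, Finset.sum_add_distrib, Finset.sum_const,
          Finset.card_univ, hcardR, nsmul_one, add_right_inj]
        by_cases hd1 : (d : G) = 1
        · rw [hA, hd1]
          simp only [mul_one]
        · rw [hmeanA d d.2 hd1, ← Finset.mul_sum,
            sum_coset_eq (H12.irr_isClassFunction X.lam) (fun ρ hρ => htB ρ (D.R_le hρ))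
              (fun ρ hρ => (mem_normalizer_iff.1 (hn' d.2) ρ).1 hρ) (D.T₀_fpf d d.2 hd1), hcardR]
          ring
      rw [Finset.sum_congr rfl fun d _ => hterm d, Finset.sum_const, nsmul_eq_mul,
        Finset.card_univ, eq_comm, mul_eq_zero] at hsum
      rw [hη]
      push_cast
      linear_combination hsum.resolve_left (by exact_mod_cast Fintype.card_pos.ne')
  -- the value at `t`
  have hv : a + ((D.r : ℤ) - 1) * e = D.η * (D.r : ℤ) := by
    have : ((a + ((D.r : ℤ) - 1) * e : ℤ) : ℂ) = ((D.η * (D.r : ℤ) : ℤ) : ℂ) := by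
      push_cast; rw [← hA1, hA2]
    exact_mod_cast this
  have hmodd : ¬ 2 ∣ m := fun h => by
    obtain ⟨w, hw⟩ := h
    have hv2 : 2 ^ (D.n + 1) ∣ Nat.card G := by
      have hd : 2 ^ D.n ∣ Nat.card (centralizer ({D.t} : Set G)) := by
        rw [← Int.natCast_dvd_natCast, hctZ, D.hT, D.hT']
        refine ⟨(D.r : ℤ) * (D.T' : ℤ) * (D.T : ℤ), ?_⟩
        obtain ⟨j, hj⟩ : ∃ j, D.n = j + 2 := ⟨D.n - 2, by omega⟩
        rw [hj, Nat.add_sub_cancel]
        push_cast
        ring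
      rw [hm, hw, pow_succ]
      exact mul_dvd_mul hd (dvd_mul_right 2 w)
    rw [← D.two_part] at hv2
    exact Nat.pow_succ_factorization_not_dvd Nat.card_pos.ne' Nat.prime_two hv2
  have hdb : (2 : ℤ) ∣ X.b * (X.b + 1) := (Int.even_mul_succ_self X.b).two_dvd
  have ha' : a = D.η * (D.r : ℤ) := by
    rcases he with rfl | rfl
    · simpa using hv
    exfalso
    rcases D.hη with hη | hη <;> rw [hη] at hv heq
    swap
    · omega
    have ha2 : a = 2 * (D.r : ℤ) - 1 := by linarith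
    obtain ⟨q, hq⟩ : (8 : ℤ) ∣ X.b + a + 2 :=
      (show (8 : ℤ) = 2 ^ 3 by norm_num) ▸ (pow_dvd_pow 2 (by omega)).trans hdiv
    obtain ⟨j, hj⟩ : ∃ j : ℤ, X.b - a = 4 * (2 * j + 1) := by
      obtain ⟨w, hw⟩ : Odd D.r := hr.odd_of_ne_two (by omega)
      refine ⟨q - (w : ℤ) - 1, ?_⟩
      rw [ha2] at hq ⊢
      rw [hw] at hq ⊢
      push_cast at hq ⊢
      linarith
    have h1 : (4 : ℤ) ∣ (D.r : ℤ) + 1 := by
      have := D.hT'
      rw [hη] at this
      rw [this]
      have h4 : (2 : ℤ) ^ 2 ∣ 2 ^ (D.n - 2) := pow_dvd_pow 2 (by omega)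
      norm_num at h4 ⊢
      exact h4.mul_right _
    obtain ⟨w1, hw1⟩ := h1
    obtain ⟨w2, hw2⟩ := hdb
    have h2 := D.hT
    rw [hη] at h2
    rw [hj, hw1, hw2, h2] at heq
    have : (2 : ℤ) ∣ (m : ℤ) * (2 * j + 1) ^ 2 :=
      ⟨3 * (D.r : ℤ) * w1 * (D.T : ℤ) ^ 2 * w2, by linarith⟩
    rcases Int.prime_two.dvd_mul.1 this with h | h
    · exact hmodd (Int.natCast_dvd_natCast.1 h)
    · obtain ⟨w, hw⟩ := Int.prime_two.dvd_of_dvd_pow h; omega
  -- the index of `C(t)`
  have hfacP : (Nat.card G).factorization 3 = 1 + D.T.factorization 3 := by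
    have h := Sylow.card_eq_multiplicity D.P
    rw [D.card_P, ← pow_succ'] at h
    have := Nat.pow_right_injective (le_of_eq_of_le rfl (by norm_num : 2 ≤ 3)) h
    omega
  have h3r : ¬ (3 : ℤ) ∣ (D.r : ℤ) + D.η := fun h => by
    obtain ⟨w, hw⟩ := D.T_three
    have := D.hT
    rw [hw] at this
    rcases D.hη with e | e <;> rw [e] at this h <;> push_cast at this <;> omega
  have hfacC : (Nat.card (centralizer ({D.t} : Set G))).factorization 3 = D.T.factorization 3 := by
    obtain ⟨v, hv⟩ : ∃ v : ℕ, (v : ℤ) = (D.r : ℤ) + D.η := ⟨((D.r : ℤ) + D.η).toNat,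
      Int.toNat_of_nonneg (by rcases D.hη with e | e <;> omega)⟩
    have hC : Nat.card (centralizer ({D.t} : Set G)) = 4 * (D.r * v) * D.T := by
      have : (Nat.card (centralizer ({D.t} : Set G)) : ℤ) = ((4 * (D.r * v) * D.T : ℕ) : ℤ) := by
        rw [hctZ, D.hT, ← hv]; push_cast; ring
      exact_mod_cast this
    have h3 : ¬ 3 ∣ 4 * (D.r * v) := fun h => by
      rcases Nat.prime_three.dvd_mul.1 h with h | h
      · norm_num at h
      rcases Nat.prime_three.dvd_mul.1 h with h | h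
      · have := (Nat.prime_dvd_prime_iff_eq Nat.prime_three hr).1 h; omega
      · exact h3r (hv ▸ (Int.natCast_dvd_natCast.2 h))
    rw [hC, Nat.factorization_mul (fun h => h3 (by rw [h]; exact dvd_zero _)) hT0.ne', Finsupp.add_apply,
      Nat.factorization_eq_zero_of_not_dvd h3, zero_add]
  have hfacm : ∀ q : ℕ, (Nat.card G).factorization q =
      (Nat.card (centralizer ({D.t} : Set G))).factorization q + m.factorization q := fun q => by
    rw [hm, Nat.factorization_mul hct0 hm0]; rfl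
  have hm3 : m.factorization 3 = 1 := by
    have := hfacm 3; omega
  obtain ⟨m', rfl⟩ : 3 ∣ m := Nat.dvd_of_factorization_pos (by omega)
  have hm'0 : m' ≠ 0 := fun h => hm0 (by rw [h, mul_zero])
  have hm'3 : ¬ 3 ∣ m' := fun h => by
    have h1 := Nat.prime_three.factorization_pos_of_dvd hm'0 h
    rw [Nat.factorization_mul (by norm_num) hm'0, Finsupp.add_apply,
      Nat.prime_three.factorization_self] at hm3
    omega
  have hcop : IsCoprime (m' : ℤ) ((D.r : ℤ) * ((D.r : ℤ) + D.η) * ((D.r : ℤ) - D.η)) := by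
    have h : Nat.Coprime m' (D.r * (D.r ^ 2 - 1)) := Nat.coprime_of_dvd fun q hq hqm hqr => by
      by_cases h2 : q = 2
      · exact hmodd (h2 ▸ hqm.mul_left 3)
      by_cases h3 : q = 3
      · exact hm'3 (h3 ▸ hqm)
      have h1 := D.part_eq q hq h2 h3 hqr
      have h4 := hq.factorization_pos_of_dvd hm0 (hqm.mul_left 3)
      have := hfacm q
      omega
    have h' := Nat.Coprime.cast (R := ℤ) h
    push_cast [Nat.cast_sub hr1] at h'
    rwa [show (D.r : ℤ) * ((D.r : ℤ) + D.η) * ((D.r : ℤ) - D.η) = (D.r : ℤ) * ((D.r : ℤ) ^ 2 - 1)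
      by linear_combination (-(D.r : ℤ)) * hη2]
  have heq' : (m' : ℤ) * (X.b - D.η * D.r) ^ 2 =
      (D.r : ℤ) * ((D.r : ℤ) + D.η) * ((D.r : ℤ) - D.η) ^ 2 * (X.b * (X.b + 1)) := by
    rw [ha'] at heq
    push_cast at heq
    linarith
  have hM'3 : Nat.Coprime M' 3 := by
    refine ((Nat.prime_three.coprime_iff_not_dvd).2 fun h => (hM' 3 Nat.prime_three h).1 ?_).symm
    rw [← Int.natCast_dvd_natCast, hctZ, D.hT]
    obtain ⟨w, hw⟩ := D.T_three
    rw [hw]
    exact ⟨4 * (D.r : ℤ) * ((D.r : ℤ) + D.η) * (w : ℤ), by push_cast; ring⟩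
  obtain ⟨hr', -, hm667, -, -⟩ := torus_arith (M := M') hr hr5 hn D.hη D.hT D.hT' D.T_three hb0 hb1
    hcop hmr (hM'3.dvd_of_dvd_mul_left hM'm) (fun h => hrm (h.mul_left 3))
    (fun q hq h => (hM' q hq h).2) heq'
  have hct : Nat.card (centralizer ({D.t} : Set G)) = 240 := by rw [D.card_ct, hr']; norm_num
  refine no_sylow_twentythree (G := G) (by rw [hm, hct, hm667]) ?_
  intro g hg
  rw [← hct]
  exact D.separated g 23 (by norm_num) (by rw [hct]; norm_num) (by rw [hr']; norm_num) hg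

end H61.CSy
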