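import Cfsg.Agent.H61.CSy.LateTools
import Cfsg.Agent.H70.CSy.LateDefs
import Cfsg.Agent.H12.Orth

/-!
The last local facts of the torus case of S4069 (`H70.CSy.LateStmt`): centralizers of the elements
of odd prime order of `C(t)`, and the index of `C(t)` modulo `r`.
-/

set_option autoImplicit false
set_option linter.unusedSectionVars false
set_option linter.style.haveILetI false

open Cfsg Subgroup

namespace H61.CSy

universe u

variable {G : Type u} [Group G] [Finite G]

theorem orderOf_conj_eq (g x : G) : orderOf (g * x * g⁻¹) = orderOf x :=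
  (MulAut.conj g).orderOf_eq x

theorem zpowers_eq_of_cyclic {P : Subgroup G} [IsCyclic P] {a b : G} (ha : a ∈ P) (hb : b ∈ P)
    (h : orderOf a = orderOf b) : zpowers a = zpowers b := by
  have hz := H70.CSy.cyclic_eq_of_card (A := P) (zpowers ⟨a, ha⟩) (zpowers ⟨b, hb⟩)
    (by rw [Nat.card_zpowers, Nat.card_zpowers, Subgroup.orderOf_mk, Subgroup.orderOf_mk, h])
  have h' := congrArg (Subgroup.map P.subtype) hz
  rwa [MonoidHom.map_zpowers, MonoidHom.map_zpowers] at h'

/-- An element normalising a group of prime order: its `p - 1` power centralises it. -/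
theorem pow_commute_prime {p : ℕ} [hp : Fact p.Prime] {z g : G} (hz : orderOf z = p)
    (hg : g * z * g⁻¹ ∈ zpowers z) : Commute z (g ^ (p - 1)) := by
  have hn : g ∈ normalizer (zpowers z : Set G) := by
    refine H82.mem_normalizer_of_map_le ?_
    rw [MonoidHom.map_zpowers, zpowers_le]
    exact hg
  have hc : Nat.card (zpowers z) = p := by rw [Nat.card_zpowers, hz]
  have h : ((zpowers z).normalizerMonoidHom ⟨g, hn⟩) ^ (p - 1) = 1 := by
    have := pow_card_eq_one' (x := (zpowers z).normalizerMonoidHom ⟨g, hn⟩)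
    rwa [IsCyclic.card_mulAut, hc, Nat.totient_prime hp.out] at this
  rw [← map_pow, ← MonoidHom.mem_ker, normalizerMonoidHom_ker, mem_subgroupOf] at h
  exact mem_centralizer_iff.1 h z (mem_zpowers z)

theorem mul_pow_mem_coset {K : Subgroup G} {k e : G} (hk : k ∈ K)
    (he : e ∈ normalizer (K : Set G)) : ∀ j : ℕ, ∃ k' ∈ K, (k * e) ^ j = k' * e ^ j := by
  intro j
  induction j with
  | zero => exact ⟨1, K.one_mem, by simp⟩
  | succ j ih =>
    obtain ⟨k', hk', h⟩ := ih
    refine ⟨k' * (e ^ j * k * (e ^ j)⁻¹),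
      K.mul_mem hk' ((mem_normalizer_iff.1 (pow_mem he j) k).1 hk), ?_⟩
    rw [pow_succ (k * e), h, pow_succ e]
    group

/-- A four-group normalising a group of odd order and an odd prime not dividing the centralisers
of its involutions. -/
theorem four_contra (hodd : H76.CSy.OddCyclic G) {t i : G} (hone : H76.CSy.OneClass G t)
    (ht : orderOf t = 2) (hi : orderOf i = 2) (hne : i ≠ t) (hcomm : Commute t i) {K : Subgroup G}
    (hK : Odd (Nat.card K)) (htK : t ∈ normalizer (K : Set G)) (hiK : i ∈ normalizer (K : Set G))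
    {q : ℕ} [hq : Fact q.Prime] (hq2 : q ≠ 2) (hqK : q ∣ Nat.card K)
    (hqC : ¬ q ∣ Nat.card (centralizer ({t} : Set G))) : False := by
  haveI := Fact.mk Nat.prime_two
  have hV : IsPGroup 2 (zpowers t ⊔ zpowers i : Subgroup G) := by
    have h1 : IsPGroup 2 (zpowers t) := IsPGroup.of_card (n := 1) (by rw [Nat.card_zpowers, ht, pow_one])
    have h2 : IsPGroup 2 (zpowers i) := IsPGroup.of_card (n := 1) (by rw [Nat.card_zpowers, hi, pow_one])
    refine h1.to_sup_of_normal_right' h2 ?_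
    rw [zpowers_le]
    refine H82.mem_normalizer_of_map_le ?_
    rw [MonoidHom.map_zpowers, zpowers_le]
    show t * i * t⁻¹ ∈ zpowers i
    rw [hcomm.eq, mul_inv_cancel_right]
    exact mem_zpowers i
  obtain ⟨P, hP, hVP⟩ := H8.exists_inv_sylowIn (q := q) hV
    (sup_le (zpowers_le.2 htK) (zpowers_le.2 hiK)) hK.not_two_dvd_nat
  haveI := H70.CSy.isCyclic_of_odd_pGroup hodd hq2 hP.isPGroup
  have hqP : q ∣ Nat.card P := by
    rw [hP.card_eq]
    exact dvd_pow_self q (hq.out.factorization_pos_of_dvd Nat.card_pos.ne' hqK).ne'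
  have key : ∀ s : G, orderOf s = 2 → (∀ x ∈ P, Commute s x) → False := fun s hs h => by
    obtain ⟨g, hg⟩ := isConj_iff.1 (hone s hs)
    refine hqC (hqP.trans ?_)
    rw [← card_cent_conj t g, hg]
    exact card_dvd_of_le fun x hx => mem_cent_of_commute (h x hx)
  have hsq : ∀ s : G, orderOf s = 2 → s * s = 1 := fun s hs => by
    rw [← pow_two, ← hs, pow_orderOf_eq_one]
  rcases invol_cyclic hq2 hP.isPGroup (hsq t ht) (hVP (mem_sup_left (mem_zpowers t))) with h1 | h1
  · exact key t ht h1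
  rcases invol_cyclic hq2 hP.isPGroup (hsq i hi) (hVP (mem_sup_right (mem_zpowers i))) with h2 | h2
  · exact key i hi h2
  refine key (t * i) ?_ fun x hx => ?_
  · refine orderOf_eq_prime ?_ fun h => hne ?_
    · rw [hcomm.mul_pow, pow_two, pow_two, hsq t ht, hsq i hi, one_mul]
    · calc i = t * (t * i) := by rw [← mul_assoc, hsq t ht, one_mul]
        _ = t := by rw [h, mul_one]
  · show t * i * x = x * (t * i)
    calc t * i * x = t * (i * x * i⁻¹) * t⁻¹ * (t * i) := by group
      _ = x * (t * i) := by rw [h2 x hx, ← conj_inv, h1 x hx, inv_inv]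

/-- An involution fixing a central element of prime order of a group of odd order centralises a
Sylow subgroup of it. -/
theorem fixed_sylow (hodd : H76.CSy.OddCyclic G) {t z : G} (ht : orderOf t = 2) {K : Subgroup G}
    (hK : Odd (Nat.card K)) (htK : t ∈ normalizer (K : Set G)) {q : ℕ} [hq : Fact q.Prime]
    (hq2 : q ≠ 2) (hz : orderOf z = q) (hzK : z ∈ K) (hzc : ∀ k ∈ K, Commute z k)
    (htz : Commute t z) :
    q ^ (Nat.card K).factorization q ∣ Nat.card (K ⊓ centralizer ({t} : Set G) : Subgroup G) := by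
  haveI := Fact.mk Nat.prime_two
  have hA : IsPGroup 2 (zpowers t) := IsPGroup.of_card (n := 1) (by rw [Nat.card_zpowers, ht, pow_one])
  obtain ⟨P, hP, hAP⟩ := H8.exists_inv_sylowIn (q := q) hA (zpowers_le.2 htK) hK.not_two_dvd_nat
  haveI := H70.CSy.isCyclic_of_odd_pGroup hodd hq2 hP.isPGroup
  obtain ⟨g, hg, hle⟩ := hP.exists_conj_le
    (IsPGroup.of_card (p := q) (G := zpowers z) (n := 1) (by rw [Nat.card_zpowers, hz, pow_one]))
    (zpowers_le.2 hzK)
  have hzP : z ∈ P := by
    have h : g * z * g⁻¹ ∈ P := hle ⟨z, mem_zpowers z, rfl⟩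
    rwa [← (hzc g hg).eq, mul_inv_cancel_right] at h
  rw [← hP.card_eq]
  refine card_dvd_of_le fun x hx => ⟨hP.le hx, mem_cent_of_commute ?_⟩
  rcases invol_cyclic hq2 hP.isPGroup (by rw [← pow_two, ← ht, pow_orderOf_eq_one])
    (hAP (mem_zpowers t)) with h | h
  · exact h x hx
  · exfalso
    have h1 := h z hzP
    rw [htz.eq, mul_inv_cancel_right] at h1
    have : z ^ 2 = 1 := by rw [pow_two]; nth_rewrite 2 [h1]; rw [mul_inv_cancel]
    have h2 := Nat.le_of_dvd two_pos (hz ▸ orderOf_dvd_of_pow_eq_one this)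
    have := hq.out.two_le
    omega

section Torus

variable {D : H70.CSy.Setup G} {M : H70.CSy.Model D} (hF : H70.CSy.WFacts D M)

include hF

theorem card_O_one : Nat.card D.O = 1 := by rw [hF.O_bot, card_bot]

theorem card_ct_eq :
    Nat.card (centralizer ({D.t} : Set G)) = 2 ^ (D.n + 1) * M.r * M.T * M.T' := by
  have hn := D.qd.three_le
  have h1 : 1 ≤ M.r ^ 2 := Nat.one_le_pow _ _ M.hr.pos
  have hη2 : M.η * M.η = 1 := by rcases M.hη with h | h <;> rw [h] <;> norm_num
  rw [M.card_ct, card_O_one hF, mul_one]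
  have h : ((2 * M.r * (M.r ^ 2 - 1) : ℕ) : ℤ) = ((2 ^ (D.n + 1) * M.r * M.T * M.T' : ℕ) : ℤ) := by
    push_cast [Nat.cast_sub h1]
    obtain ⟨j, hj⟩ : ∃ j, D.n = j + 1 := ⟨D.n - 1, by omega⟩
    have h2 := M.hT'
    rw [hj, Nat.add_sub_cancel] at h2
    rw [hj, pow_succ, pow_succ]
    linear_combination (2 * (M.r : ℤ)) * hη2 + (2 * (M.r : ℤ) * ((M.r : ℤ) + M.η)) * M.hT +
      (4 * (M.r : ℤ) * (M.T : ℤ)) * h2
  exact_mod_cast h

theorem dvd_ct_cases {s : ℕ} (hs : s.Prime)
    (h : s ∣ Nat.card (centralizer ({D.t} : Set G))) : s = 2 ∨ s = M.r ∨ s ∣ M.T ∨ s ∣ M.T' := by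
  rw [card_ct_eq hF] at h
  rcases hs.dvd_mul.1 h with h | h
  · rcases hs.dvd_mul.1 h with h | h
    · rcases hs.dvd_mul.1 h with h | h
      · exact Or.inl ((Nat.prime_dvd_prime_iff_eq hs Nat.prime_two).1 (hs.dvd_of_dvd_pow h))
      · exact Or.inr (Or.inl ((Nat.prime_dvd_prime_iff_eq hs M.hr).1 h))
    · exact Or.inr (Or.inr (Or.inl h))
  · exact Or.inr (Or.inr (Or.inr h))

theorem T_dvd_ct : M.T ∣ Nat.card (centralizer ({D.t} : Set G)) :=
  card_ct_eq hF ▸ (dvd_mul_left _ _).mul_right _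

theorem T'_dvd_ct : M.T' ∣ Nat.card (centralizer ({D.t} : Set G)) :=
  card_ct_eq hF ▸ dvd_mul_left _ _

theorem two_dvd_ct : 2 ∣ Nat.card (centralizer ({D.t} : Set G)) :=
  card_ct_eq hF ▸ (((dvd_pow_self 2 (by omega)).mul_right _).mul_right _).mul_right _

theorem three_dvd_ct : 3 ∣ Nat.card (centralizer ({D.t} : Set G)) :=
  hF.T_three.trans (T_dvd_ct hF)

theorem prime_facts {q : ℕ} (hq : q.Prime) :
    (q ∣ M.T → q ≠ 2 ∧ q ≠ M.r) ∧ (q ∣ M.T' → q ≠ 2 ∧ q ≠ M.r ∧ ¬ q ∣ M.T) := by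
  have hr5 := M.hr5
  have hn := D.qd.three_le
  have e1 := M.hT
  have e2 := M.hT'
  have hp2 : (2 : ℤ) ∣ 2 ^ (D.n - 1) := dvd_pow_self 2 (by omega)
  have small : ∀ x : ℤ, x.natAbs ≤ 2 → x ≠ 0 → (q : ℤ) ∣ x → q = 2 ∧ x.natAbs = 2 :=
    fun x hx hx0 hd => by
      have := Nat.le_of_dvd (Int.natAbs_pos.2 hx0) (Int.natCast_dvd.1 hd)
      have := hq.two_le
      omega
  refine ⟨fun h => ⟨fun e => M.T_odd.not_two_dvd_nat (e ▸ h), fun e => ?_⟩,
    fun h => ⟨fun e => M.T'_odd.not_two_dvd_nat (e ▸ h), fun e => ?_, fun h' => ?_⟩⟩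
  · have h1 : (q : ℤ) ∣ M.η := by
      have := Int.dvd_sub (dvd_of_eq (congrArg Int.ofNat e) : (q : ℤ) ∣ (M.r : ℤ))
        (e1 ▸ (Int.natCast_dvd_natCast.2 h).mul_left 2)
      simpa using this
    have := small _ (by rcases M.hη with x | x <;> rw [x] <;> norm_num)
      (by rcases M.hη with x | x <;> rw [x] <;> norm_num) h1
    rcases M.hη with x | x <;> rw [x] at this <;> norm_num at this
  · have h1 : (q : ℤ) ∣ M.η := by
      have := Int.dvd_sub (e2 ▸ (Int.natCast_dvd_natCast.2 h).mul_left _)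
        (dvd_of_eq (congrArg Int.ofNat e) : (q : ℤ) ∣ (M.r : ℤ))
      simpa using this
    have := small _ (by rcases M.hη with x | x <;> rw [x] <;> norm_num)
      (by rcases M.hη with x | x <;> rw [x] <;> norm_num) h1
    rcases M.hη with x | x <;> rw [x] at this <;> norm_num at this
  · have h1 := Int.dvd_sub (e2 ▸ (Int.natCast_dvd_natCast.2 h).mul_left _ :
      (q : ℤ) ∣ (M.r : ℤ) + M.η) (e1 ▸ (Int.natCast_dvd_natCast.2 h').mul_left 2)
    rw [show (M.r : ℤ) + M.η - ((M.r : ℤ) - M.η) = 2 * M.η by ring] at h1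
    have := small _ (by rcases M.hη with x | x <;> rw [x] <;> norm_num)
      (by rcases M.hη with x | x <;> rw [x] <;> norm_num) h1
    exact M.T_odd.not_two_dvd_nat (this.1 ▸ h')

/-- Centralisers of the elements of prime order dividing `T`. -/
theorem cent_T {q : ℕ} (hq : q.Prime) (hqT : q ∣ M.T) {a : G} (ha : orderOf a = q) :
    Nat.card (centralizer ({a} : Set G)) = 12 * M.T := by
  haveI := Fact.mk hq
  obtain ⟨d, hd⟩ := exists_prime_orderOf_dvd_card' q (M.card_W.symm ▸ hqT : q ∣ Nat.card M.W)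
  have hd' : orderOf (d : G) = q := by rw [Subgroup.orderOf_coe, hd]
  rw [cent_card_eq D.hyp.odd ((prime_facts hF hq).1 hqT).1 ha hd']
  exact hF.card_cd d d.2 (hd'.symm ▸ hq)

/-- Centralisers of the elements of prime order dividing `T'`. -/
theorem cent_T' {q : ℕ} (hq : q.Prime) (hqT : q ∣ M.T') {a : G} (ha : orderOf a = q) :
    (∀ s : ℕ, s.Prime → s ∣ Nat.card (centralizer ({a} : Set G)) →
      s ∣ Nat.card (centralizer ({D.t} : Set G)) ∧ s ≠ M.r) ∧
    (Nat.card (centralizer ({a} : Set G))).factorization q ≤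
      (Nat.card (centralizer ({D.t} : Set G))).factorization q := by
  classical
  haveI := Fact.mk hq
  haveI := Fact.mk Nat.prime_two
  obtain ⟨hq2, hqr, hqT0⟩ := (prime_facts hF hq).2 hqT
  obtain ⟨⟨d, hdC⟩, hd⟩ := exists_prime_orderOf_dvd_card' q (hqT.trans (T'_dvd_ct hF))
  rw [Subgroup.orderOf_mk] at hd
  rw [cent_card_eq D.hyp.odd hq2 ha hd]
  obtain ⟨hcard, ⟨c, hct, hcd, hco⟩, ⟨i, hi, hit, hitc, hinv⟩⟩ :=
    M.cent_T' d hdC (hd.symm ▸ hq) (hd.symm ▸ hqT)
  rw [card_O_one hF, mul_one] at hcard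
  have hn := D.qd.three_le
  have htd : Commute D.t d := commute_of_mem_cent hdC
  have hpair : centralizer ({D.t, d} : Set G) =
      centralizer ({d} : Set G) ⊓ centralizer ({D.t} : Set G) := by
    ext x
    simp only [Subgroup.mem_inf, mem_centralizer_iff, Set.mem_insert_iff, Set.mem_singleton_iff,
      forall_eq_or_imp, forall_eq]
    exact and_comm
  rw [hpair] at hcard
  let H := centralizer ({d} : Set G)
  have hcH : c ∈ H := mem_cent_of_commute hcd.symm
  have htH : D.t ∈ H := mem_cent_of_commute htd.symm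
  have hno : ¬ 2 ^ (D.n + 1) ∣ 2 ^ D.n * M.T' := by
    rw [pow_succ]
    exact fun h => M.T'_odd.not_two_dvd_nat (Nat.dvd_of_mul_dvd_mul_left (by positivity) h)
  have hcpow : c ^ 2 ^ (D.n - 1) = D.t := by
    have hmem : ∀ x ∈ zpowers c ⊔ zpowers D.t, x ∈ H ⊓ centralizer ({D.t} : Set G) := by
      have : zpowers c ⊔ zpowers D.t ≤ H ⊓ centralizer ({D.t} : Set G) :=
        sup_le (zpowers_le.2 ⟨hcH, mem_cent_of_commute hct.symm⟩)
          (zpowers_le.2 ⟨htH, mem_cent_of_commute (Commute.refl _)⟩)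
      exact fun x hx => this hx
    have hV : IsPGroup 2 (zpowers c ⊔ zpowers D.t : Subgroup G) := by
      refine (IsPGroup.of_card (G := zpowers c) (n := D.n) (by rw [Nat.card_zpowers, hco])).to_sup_of_normal_right'
        (IsPGroup.of_card (G := zpowers D.t) (n := 1) (by rw [Nat.card_zpowers, D.t_ord, pow_one])) ?_
      rw [zpowers_le]
      refine H82.mem_normalizer_of_map_le ?_
      rw [MonoidHom.map_zpowers, zpowers_le]
      show c * D.t * c⁻¹ ∈ zpowers D.t
      rw [hct.eq, mul_inv_cancel_right]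
      exact mem_zpowers _
    obtain ⟨j, hj⟩ := IsPGroup.iff_card.1 hV
    have hjle : j ≤ D.n := by
      by_contra hlt
      exact hno ((pow_dvd_pow 2 (by omega : D.n + 1 ≤ j)).trans
        (hcard ▸ hj ▸ card_dvd_of_le (fun x hx => hmem x hx)))
    have heq : zpowers c = zpowers c ⊔ zpowers D.t :=
      eq_of_le_of_card_ge le_sup_left (by
        rw [Nat.card_zpowers, hco, hj]; exact Nat.pow_le_pow_right two_pos hjle)
    have htc : D.t ∈ zpowers c := heq ▸ mem_sup_right (mem_zpowers _)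
    refine eq_of_invol_cyclic (P := zpowers c) (pow_mem (mem_zpowers c) _) htc ?_ D.t_ord
    rw [orderOf_pow_of_dvd (by positivity) (hco ▸ pow_dvd_pow 2 (by omega)), hco,
      Nat.pow_div (by omega) two_pos, show D.n - (D.n - 1) = 1 by omega, pow_one]
  have hv : (Nat.card H).factorization 2 = D.n :=
    two_part_eq (by omega) hcH hco hcpow (hcard.symm ▸ hno)
  obtain ⟨K, hKle, hKmem, hKcard, hKodd⟩ := two_complement (by omega) hcH hco hv
  have hnorm : ∀ g : G, g ∈ normalizer (H : Set G) → g ∈ normalizer (K : Set G) := fun g hg =>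
    conj_mem_complement hKle hKmem (zpowers_le.2 hg) (mem_zpowers g)
  have htK := hnorm _ (le_normalizer htH)
  have hcK := hnorm _ (le_normalizer hcH)
  have hiK := hnorm _ (conj_mem_cent (Or.inr hinv))
  have hdK : d ∈ K := (hKmem d (mem_cent_of_commute (Commute.refl d))).2 (hd.symm ▸ hq.odd_of_ne_two hq2)
  refine ⟨fun s hs hsH => ?_, ?_⟩
  · haveI := Fact.mk hs
    by_cases hs2 : s = 2
    · exact hs2 ▸ ⟨two_dvd_ct hF, fun h => by have := M.hr5; omega⟩
    have hsK : s ∣ Nat.card K := by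
      rw [hKcard] at hsH
      exact (hs.dvd_mul.1 hsH).resolve_left fun h =>
        hs2 ((Nat.prime_dvd_prime_iff_eq hs Nat.prime_two).1 (hs.dvd_of_dvd_pow h))
    by_cases hsC : s ∣ Nat.card (centralizer ({D.t} : Set G))
    · refine ⟨hsC, ?_⟩
      rintro rfl
      -- the automorphisms of a cyclic `r`-group induced by `c`
      obtain ⟨P, hP, hAP⟩ := H8.exists_inv_sylowIn (q := M.r)
        (IsPGroup.of_card (p := 2) (G := zpowers c) (n := D.n) (by rw [Nat.card_zpowers, hco]))
        (zpowers_le.2 hcK) hKodd.not_two_dvd_nat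
      haveI := H70.CSy.isCyclic_of_odd_pGroup D.hyp.odd hs2 hP.isPGroup
      have hv1 := hs.factorization_pos_of_dvd Nat.card_pos.ne' hsK
      obtain ⟨w, hw⟩ : ∃ w, (Nat.card K).factorization M.r = w + 1 :=
        ⟨_, (Nat.succ_pred_eq_of_pos hv1).symm⟩
      have hc' : c ∈ normalizer (P : Set G) := hAP (mem_zpowers c)
      obtain ⟨f, hf⟩ : ∃ f : MulAut P, f = P.normalizerMonoidHom ⟨c, hc'⟩ := ⟨_, rfl⟩
      have h1 : orderOf f ∣ 2 ^ D.n := by
        rw [hf]
        exact (orderOf_map_dvd _ _).trans (by rw [Subgroup.orderOf_mk, hco])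
      obtain ⟨j, hjn, hj⟩ := (Nat.dvd_prime_pow Nat.prime_two).1 h1
      have hjlt : j ≤ D.n - 1 := by
        by_contra hlt
        have h2 : orderOf f ∣ M.r ^ w * (M.r - 1) := by
          have := orderOf_dvd_natCard f
          rwa [IsCyclic.card_mulAut, hP.card_eq, hw, Nat.totient_prime_pow_succ hs] at this
        rw [hj, show j = D.n by omega] at h2
        have h3 : 2 ^ D.n ∣ M.r - 1 :=
          (((Nat.coprime_primes Nat.prime_two hs).2 (Ne.symm hs2)).pow D.n w).dvd_of_dvd_mul_left h2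
        obtain ⟨u, hu⟩ : ∃ u, D.n = u + 2 := ⟨D.n - 2, by omega⟩
        have hr5 := M.hr5
        rw [hu] at h3
        rcases M.hη with he | he
        · have e1 := M.hT
          rw [he] at e1
          have h4 : M.r - 1 = 2 * M.T := by omega
          rw [h4, pow_succ'] at h3
          exact M.T_odd.not_two_dvd_nat
            ((dvd_pow_self 2 (Nat.succ_ne_zero u)).trans (Nat.dvd_of_mul_dvd_mul_left two_pos h3))
        · have e1 := M.hT'
          rw [he, hu, show u + 2 - 1 = u + 1 by omega] at e1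
          have h4 : M.r - 1 = 2 ^ (u + 1) * M.T' := by
            have : (((2 ^ (u + 1) * M.T' + 1 : ℕ)) : ℤ) = ((M.r : ℕ) : ℤ) := by push_cast; linarith
            have := Nat.cast_injective this
            omega
          rw [h4, pow_succ] at h3
          exact M.T'_odd.not_two_dvd_nat (Nat.dvd_of_mul_dvd_mul_left (by positivity) h3)
      have hft : f ^ 2 ^ (D.n - 1) = 1 :=
        orderOf_dvd_iff_pow_eq_one.1 (hj ▸ pow_dvd_pow 2 hjlt)
      rw [hf, ← map_pow, ← MonoidHom.mem_ker, normalizerMonoidHom_ker, mem_subgroupOf] at hft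
      have htP : D.t ∈ centralizer (P : Set G) := by simpa [hcpow] using hft
      have hle : P ≤ H ⊓ centralizer ({D.t} : Set G) := fun x hx =>
        ⟨hKle (hP.le hx), mem_cent_of_commute (mem_centralizer_iff.1 htP x hx).symm⟩
      have h5 : M.r ∣ 2 ^ D.n * M.T' :=
        hcard ▸ (hP.card_eq ▸ dvd_pow_self M.r hv1.ne').trans (card_dvd_of_le hle)
      rcases hs.dvd_mul.1 h5 with h | h
      · exact hs2 ((Nat.prime_dvd_prime_iff_eq hs Nat.prime_two).1 (hs.dvd_of_dvd_pow h))
      · exact ((prime_facts hF hs).2 h).2.1 rfl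
    · exfalso
      exact four_contra D.hyp.odd D.one D.t_ord hi hit hitc.symm hKodd htK hiK hs2 hsK hsC
  · have hfac : (Nat.card H).factorization q = (Nat.card K).factorization q := by
      rw [hKcard, Nat.factorization_mul (by positivity) Nat.card_pos.ne', Finsupp.add_apply,
        Nat.factorization_eq_zero_of_not_dvd (fun h => hq2 ((Nat.prime_dvd_prime_iff_eq hq
          Nat.prime_two).1 (hq.dvd_of_dvd_pow h))), zero_add]
    rw [hfac, ← hq.pow_dvd_iff_le_factorization Nat.card_pos.ne']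
    exact (fixed_sylow D.hyp.odd D.t_ord hKodd htK hq2 hd hdK
      (fun k hk => commute_of_mem_cent (hKle hk)) htd).trans (card_dvd_of_le inf_le_right)

/-- An element of prime order `s ≠ r` of `C(t)` commutes with no element of prime order not
dividing `|C(t)|`. -/
theorem cent_small {s q : ℕ} (hs : s.Prime) (hsC : s ∣ Nat.card (centralizer ({D.t} : Set G)))
    (hsr : s ≠ M.r) {a : G} (ha : orderOf a = s) (hq : q.Prime)
    (hqC : ¬ q ∣ Nat.card (centralizer ({D.t} : Set G))) :
    ¬ q ∣ Nat.card (centralizer ({a} : Set G)) := by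
  intro h
  rcases dvd_ct_cases hF hs hsC with rfl | h1 | h1 | h1
  · obtain ⟨g, hg⟩ := isConj_iff.1 (D.one a ha)
    rw [← hg, card_cent_conj] at h
    exact hqC h
  · exact hsr h1
  · rw [cent_T hF hs h1 ha] at h
    rcases hq.dvd_mul.1 h with h | h
    · rw [show 12 = 2 ^ 2 * 3 by norm_num] at h
      rcases hq.dvd_mul.1 h with h | h
      · exact hqC ((Nat.prime_dvd_prime_iff_eq hq Nat.prime_two).1 (hq.dvd_of_dvd_pow h) ▸ two_dvd_ct hF)
      · exact hqC ((Nat.prime_dvd_prime_iff_eq hq Nat.prime_three).1 h ▸ three_dvd_ct hF)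
    · exact hqC (h.trans (T_dvd_ct hF))
  · exact hqC ((cent_T' hF hs h1 ha).1 q hq h).1

set_option maxHeartbeats 800000 in
/-- The centraliser of the subgroup of order `r`. -/
theorem cent_r : ∃ (R : Subgroup G) (M' : ℕ), Nat.card R = M.r ∧
    R ≤ centralizer ({D.t} : Set G) ∧
    (∀ a : G, orderOf a = M.r → Nat.card (centralizer ({a} : Set G)) = 2 * M.r * M') ∧
    (Nat.card G).factorization M.r = 1 ∧
    Nat.card {s : G // orderOf s = 2 ∧ s ∈ centralizer (R : Set G)} = M' ∧
    ∀ q : ℕ, q.Prime → q ∣ M' →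
      ¬ q ∣ Nat.card (centralizer ({D.t} : Set G)) ∧ 2 * (M.r - 1) ∣ q - 1 := by
  classical
  obtain ⟨B⟩ : Nonempty (H70.CSy.Borel D.t M.W M.r M.T M.T' M.η) := ⟨M.borel hF.O_bot⟩
  haveI := Fact.mk M.hr
  haveI := Fact.mk Nat.prime_two
  have hr5 := M.hr5
  have hr2 : M.r ≠ 2 := by omega
  haveI : IsCyclic B.R := isCyclic_of_prime_card B.card_R
  obtain ⟨⟨ρ, hρR⟩, hρ⟩ := IsCyclic.exists_ofOrder_eq_natCard (α := B.R)
  rw [B.card_R, Subgroup.orderOf_mk] at hρ
  have hRz : zpowers ρ = B.R :=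
    eq_of_le_of_card_ge (zpowers_le.2 hρR) (by rw [Nat.card_zpowers, hρ, B.card_R])
  let H := centralizer (B.R : Set G)
  have hHρ : centralizer ({ρ} : Set G) = H := by
    show _ = centralizer (B.R : Set G)
    rw [← hRz, zpowers_eq_closure, centralizer_closure]
  have htR : ∀ x ∈ B.R, Commute D.t x := fun x hx => commute_of_mem_cent (B.B_le (B.R_le hx))
  have htH : D.t ∈ H := mem_centralizer_iff.2 fun x hx => (htR x hx).eq.symm
  have hins : centralizer (insert D.t (B.R : Set G)) = H ⊓ centralizer ({D.t} : Set G) := by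
    ext x
    simp only [H, Subgroup.mem_inf, mem_centralizer_iff, Set.mem_insert_iff, forall_eq_or_imp,
      Set.mem_singleton_iff, forall_eq]
    exact and_comm
  have hHt : Nat.card (H ⊓ centralizer ({D.t} : Set G) : Subgroup G) = 2 * M.r := hins ▸ B.card_cR
  have hno : ¬ 2 ^ (1 + 1) ∣ 2 * M.r := fun h => by
    have h1 : 2 ∣ M.r := Nat.dvd_of_mul_dvd_mul_left two_pos h
    exact hr2 ((Nat.prime_dvd_prime_iff_eq Nat.prime_two M.hr).1 h1).symm
  have hv : (Nat.card H).factorization 2 = 1 :=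
    two_part_eq le_rfl htH (by rw [D.t_ord, pow_one]) (by simp) (hHt.symm ▸ hno)
  obtain ⟨K, hKle, hKmem, hKcard, hKodd⟩ :=
    two_complement le_rfl htH (by rw [D.t_ord, pow_one]) hv
  rw [pow_one] at hKcard
  have hρH : ρ ∈ H := hHρ ▸ mem_cent_of_commute (Commute.refl ρ)
  have hρK : ρ ∈ K := (hKmem ρ hρH).2 (hρ.symm ▸ M.hr.odd_of_ne_two hr2)
  obtain ⟨M', hM'⟩ : M.r ∣ Nat.card K := hρ ▸ Subgroup.orderOf_dvd_natCard K hρK
  have hnorm : ∀ g : G, g ∈ normalizer (H : Set G) → g ∈ normalizer (K : Set G) := fun g hg =>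
    conj_mem_complement hKle hKmem (zpowers_le.2 hg) (mem_zpowers g)
  have htK := hnorm _ (le_normalizer htH)
  have hBH : B.B ≤ normalizer (H : Set G) :=
    H8.le_normalizer_centralizer_of_le_normalizer B.B_normR
  have hKρ : ∀ k ∈ K, Commute ρ k := fun k hk => mem_centralizer_iff.1 (hKle hk) ρ hρR
  have hvK : (Nat.card K).factorization M.r ≤ 1 := by
    have h1 := (fixed_sylow D.hyp.odd D.t_ord hKodd htK hr2 hρ hρK hKρ (htR ρ hρR)).trans
      ((card_dvd_of_le (inf_le_inf_right _ hKle)).trans (dvd_of_eq hHt))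
    by_contra hlt
    have h2 : M.r * M.r ∣ 2 * M.r :=
      pow_two M.r ▸ (pow_dvd_pow M.r (by omega)).trans h1
    have := Nat.le_of_dvd two_pos (Nat.dvd_of_mul_dvd_mul_right M.hr.pos h2)
    omega
  have hcardρ : Nat.card H = 2 * M.r * M' := by rw [hKcard, hM', mul_assoc]
  have hM'0 : M' ≠ 0 := fun h => by
    rw [h, mul_zero] at hM'
    exact Nat.card_pos.ne' hM'
  have hrM' : ¬ M.r ∣ M' := fun h => by
    have h1 := M.hr.factorization_pos_of_dvd hM'0 h
    rw [hM', Nat.factorization_mul M.hr.ne_zero hM'0, Finsupp.add_apply,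
      M.hr.factorization_self] at hvK
    omega
  refine ⟨B.R, M', B.card_R, B.R_le.trans B.B_le, fun a ha => ?_, ?_, ?_, fun q hq hqM => ?_⟩
  · rw [cent_card_eq D.hyp.odd hr2 ha hρ, hHρ, hcardρ]
  · refine le_antisymm ?_ (M.hr.factorization_pos_of_dvd Nat.card_pos.ne'
      (hρ ▸ orderOf_dvd_natCard ρ))
    refine (factorization_le_cent D.hyp.odd hr2 hρ).trans ?_
    rw [hHρ, hKcard, Nat.factorization_mul two_ne_zero Nat.card_pos.ne', Finsupp.add_apply,
      Nat.factorization_eq_zero_of_not_dvd (fun h => by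
        have := Nat.le_of_dvd two_pos h; omega), zero_add]
    exact hvK
  · -- the involutions of `C(R)` are conjugate
    haveI : Fintype H := Fintype.ofFinite _
    let t' : H := ⟨D.t, htH⟩
    have hP : ∀ s : H, orderOf s = 2 → IsConj t' s := by
      intro s hs
      let P : Sylow 2 H := Sylow.ofCard (zpowers t')
        (by rw [Nat.card_zpowers, Subgroup.orderOf_mk, D.t_ord, hv, pow_one])
      let Q : Sylow 2 H := Sylow.ofCard (zpowers s) (by rw [Nat.card_zpowers, hs, hv, pow_one])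
      obtain ⟨g, hg⟩ := MulAction.exists_smul_eq H P Q
      have hmem : g * t' * g⁻¹ ∈ (Q : Subgroup H) := by
        rw [← hg]
        exact Subgroup.smul_mem_pointwise_smul _ (MulAut.conj g) _ (mem_zpowers t')
      exact isConj_iff.2 ⟨g, eq_of_invol_cyclic (P := zpowers s) hmem (mem_zpowers s)
        (by rw [orderOf_conj_eq, Subgroup.orderOf_mk, D.t_ord]) hs⟩
    have hcls := H12.card_conjClass_mul_card_centralizer (G := H) t'
    have h1 : Nat.card (centralizer ({t'} : Set H)) = 2 * M.r := by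
      rw [← hHt]
      refine Nat.card_congr
        { toFun := fun x => ⟨((x : H) : G), (x : H).2,
            mem_cent_of_commute (congrArg Subtype.val (commute_of_mem_cent x.2).eq)⟩
          invFun := fun x => ⟨⟨(x : G), x.2.1⟩,
            mem_cent_of_commute (Subtype.ext (commute_of_mem_cent x.2.2).eq)⟩
          left_inv := fun x => rfl
          right_inv := fun x => rfl }
    rw [h1, Nat.card_eq_fintype_card (α := H)] at hcls
    rw [← Nat.card_eq_fintype_card (α := H), hcardρ] at hcls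
    have h2 : Nat.card {s : G // orderOf s = 2 ∧ s ∈ centralizer (B.R : Set G)} =
        ({x : H | IsConj t' x} : Finset H).card := by
      rw [← Nat.card_eq_finsetCard]
      refine Nat.card_congr
        { toFun := fun s => ⟨⟨s.1, s.2.2⟩, Finset.mem_filter.2 ⟨Finset.mem_univ _,
            hP _ (by rw [Subgroup.orderOf_mk]; exact s.2.1)⟩⟩
          invFun := fun x => ⟨((x : H) : G), ?_, (x : H).2⟩
          left_inv := fun s => rfl
          right_inv := fun x => rfl }
      obtain ⟨g, hg⟩ := isConj_iff.1 (Finset.mem_filter.1 x.2).2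
      rw [Subgroup.orderOf_coe, ← hg, orderOf_conj_eq, Subgroup.orderOf_mk, D.t_ord]
    rw [h2]
    rw [mul_comm] at hcls
    convert Nat.eq_of_mul_eq_mul_left (by have := M.hr.pos; omega : 0 < 2 * M.r) hcls using 3
  · haveI := Fact.mk hq
    have hqK : q ∣ Nat.card K := hM' ▸ hqM.mul_left _
    have hq2 : q ≠ 2 := fun h => hKodd.not_two_dvd_nat (h ▸ hqK)
    have hqr : q ≠ M.r := fun h => hrM' (h ▸ hqM)
    obtain ⟨⟨w, hwK⟩, hw⟩ := exists_prime_orderOf_dvd_card' q hqK
    rw [Subgroup.orderOf_mk] at hw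
    have hwρ : M.r ∣ Nat.card (centralizer ({w} : Set G)) :=
      hρ ▸ Subgroup.orderOf_dvd_natCard _ (mem_cent_of_commute (hKρ w hwK).symm)
    have hqC : ¬ q ∣ Nat.card (centralizer ({D.t} : Set G)) := by
      intro h
      rcases dvd_ct_cases hF hq h with h1 | h1 | h1 | h1
      · exact hq2 h1
      · exact hqr h1
      · rw [cent_T hF hq h1 hw] at hwρ
        rcases M.hr.dvd_mul.1 hwρ with h2 | h2
        · rw [show 12 = 2 ^ 2 * 3 by norm_num] at h2
          rcases M.hr.dvd_mul.1 h2 with h2 | h2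
          · exact hr2 ((Nat.prime_dvd_prime_iff_eq M.hr Nat.prime_two).1 (M.hr.dvd_of_dvd_pow h2))
          · have := Nat.le_of_dvd (by norm_num) h2; omega
        · exact ((prime_facts hF M.hr).1 h2).2 rfl
      · exact ((cent_T' hF hq h1 hw).1 M.r M.hr hwρ).2 rfl
    refine ⟨hqC, ?_⟩
    rcases M.hη with hη | hη
    · obtain ⟨i, hiB, hi, hit⟩ := B.split_invol hη
      exact (four_contra D.hyp.odd D.one D.t_ord hi hit (commute_of_mem_cent (B.B_le hiB)) hKodd
        htK (hnorm _ (hBH hiB)) hq2 hqK hqC).elim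
    -- an element inducing `e` and normalising an inverted Sylow subgroup
    have hA : IsPGroup 2 (zpowers D.t) :=
      IsPGroup.of_card (n := 1) (by rw [Nat.card_zpowers, D.t_ord, pow_one])
    obtain ⟨P, hP, hAP⟩ := H8.exists_inv_sylowIn (q := q) hA (zpowers_le.2 htK) hKodd.not_two_dvd_nat
    haveI := H70.CSy.isCyclic_of_odd_pGroup D.hyp.odd hq2 hP.isPGroup
    have hqP : q ∣ Nat.card P := by
      rw [hP.card_eq]
      exact dvd_pow_self q (hq.factorization_pos_of_dvd Nat.card_pos.ne' hqK).ne'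
    obtain ⟨⟨z, hzP⟩, hz⟩ := exists_prime_orderOf_dvd_card' q hqP
    rw [Subgroup.orderOf_mk] at hz
    have hinv : D.t * z * D.t⁻¹ = z⁻¹ := by
      rcases invol_cyclic hq2 hP.isPGroup (by rw [← pow_two, ← D.t_ord, pow_orderOf_eq_one])
        (hAP (mem_zpowers _)) with h | h
      · exact absurd (hqP.trans (card_dvd_of_le fun x hx => mem_cent_of_commute (h x hx))) hqC
      · exact h z hzP
    have heK : B.e ∈ normalizer (K : Set G) := hnorm _ (hBH B.e_mem)
    have hQ := H8.sylowIn_map_conj (zpowers_le.2 heK) (mem_zpowers B.e) hP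
    obtain ⟨k, hk, hkP⟩ := hQ.exists_conj hP
    rw [← H82.map_conj_mul] at hkP
    have he' : k * B.e * z * (k * B.e)⁻¹ ∈ zpowers z := by
      have hm : k * B.e * z * (k * B.e)⁻¹ ∈ P :=
        (mem_normalizer_iff.1 (H82.mem_normalizer_iff_map.2 hkP) z).1 hzP
      rw [← zpowers_eq_of_cyclic hm hzP (orderOf_conj_eq _ _)]
      exact mem_zpowers _
    have hjz : Commute z ((k * B.e) ^ (q - 1)) := pow_commute_prime hz he'
    obtain ⟨k', hk', hkj⟩ := mul_pow_mem_coset hk heK (q - 1)
    rw [hkj] at hjz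
    have hk'ρ := hKρ k' hk'
    have heρ : B.e * ρ * B.e⁻¹ ∈ zpowers ρ :=
      hRz ▸ (mem_normalizer_iff.1 (B.B_normR B.e_mem) ρ).1 hρR
    have hfix : ∀ g : G, Commute ρ g → g ∈ H := fun g hg => hHρ ▸ mem_cent_of_commute hg
    by_cases hdiv : M.r - 1 ∣ q - 1
    · obtain ⟨i, hi⟩ := hdiv
      by_cases hev : 2 ∣ i
      · obtain ⟨w', rfl⟩ := hev
        exact ⟨w', by rw [hi]; ring⟩
      exfalso
      have hu : orderOf (B.e ^ (M.r - 1)) = 2 := by
        rw [orderOf_pow_of_dvd (by omega) (B.e_ord hη ▸ dvd_mul_left _ 2), B.e_ord hη,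
          Nat.mul_div_cancel _ (by omega)]
      have huH : B.e ^ (M.r - 1) ∈ H ⊓ centralizer ({D.t} : Set G) :=
        ⟨hfix _ (pow_commute_prime hρ heρ), B.B_le (pow_mem B.e_mem _)⟩
      have het : B.e ^ (M.r - 1) = D.t := by
        set Hc := H ⊓ centralizer ({D.t} : Set G) with hHc
        have htc : D.t ∈ Hc := ⟨htH, mem_cent_of_commute (Commute.refl _)⟩
        haveI : (zpowers (⟨D.t, htc⟩ : Hc)).Normal := ⟨fun a ha g => by
          obtain ⟨w', rfl⟩ := mem_zpowers_iff.1 ha
          have hg : Commute g (⟨D.t, htc⟩ : Hc) :=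
            Subtype.ext (commute_of_mem_cent g.2.2).eq.symm
          rw [(hg.zpow_right w').eq, mul_inv_cancel_right]
          exact zpow_mem (mem_zpowers _) w'⟩
        have hidx : (zpowers (⟨D.t, htc⟩ : Hc)).index = M.r := by
          have h1 := (zpowers (⟨D.t, htc⟩ : Hc)).card_mul_index
          rw [Nat.card_zpowers, Subgroup.orderOf_mk, D.t_ord, hHt] at h1
          exact Nat.eq_of_mul_eq_mul_left two_pos h1
        have h2 := Subgroup.pow_index_mem (zpowers (⟨D.t, htc⟩ : Hc)) ⟨_, huH⟩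
        rw [hidx] at h2
        have h3 : (B.e ^ (M.r - 1)) ^ M.r ∈ zpowers D.t := by
          obtain ⟨w', hw'⟩ := mem_zpowers_iff.1 h2
          exact ⟨w', by simpa using congrArg Subtype.val hw'⟩
        have h4' : ∀ g : G, orderOf g = 2 → ∀ j : ℕ, Odd j → g ^ j = g := by
          rintro g hg j ⟨w', rfl⟩
          rw [pow_succ, pow_mul, ← hg, pow_orderOf_eq_one, one_pow, one_mul]
        have h4 := h4' _ hu M.r (M.hr.odd_of_ne_two hr2)
        rw [h4] at h3
        exact eq_of_invol_cyclic (P := zpowers D.t) h3 (mem_zpowers _) hu D.t_ord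
      have hej : B.e ^ (q - 1) = D.t := by
        have h2 := D.t_ord
        obtain ⟨w', hw'⟩ := (Nat.odd_iff.2 (Nat.two_dvd_ne_zero.1 hev) : Odd i)
        rw [hi, pow_mul, het, hw', pow_succ, pow_mul, ← D.t_ord, pow_orderOf_eq_one, one_pow,
          one_mul]
      rw [hej] at hjz
      have h1 : k' * z⁻¹ * k'⁻¹ = z := by
        calc k' * z⁻¹ * k'⁻¹ = k' * (D.t * z * D.t⁻¹) * k'⁻¹ := by rw [hinv]
          _ = (k' * D.t) * z * (k' * D.t)⁻¹ := by group
          _ = z := by rw [← hjz.eq, mul_inv_cancel_right]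
      have h2 : Commute (k' ^ 2) z := by
        have e1 : k' * z * k'⁻¹ = z⁻¹ := by
          conv_rhs => rw [← h1]
          group
        show k' ^ 2 * z = z * k' ^ 2
        calc k' ^ 2 * z = k' * (k' * z * k'⁻¹) * k'⁻¹ * k' ^ 2 := by rw [pow_two]; group
          _ = z * k' ^ 2 := by rw [e1, h1]
      have h3 : Commute k' z := by
        obtain ⟨u, hu'⟩ := exists_pow_eq_self_of_coprime (x := k') (n := 2)
          (Nat.coprime_two_left.2 ((hKmem k' (hKle hk')).1 hk'))
        exact hu' ▸ h2.pow_left u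
      have h4 : z⁻¹ = z := by
        rwa [h3.inv_right.eq, mul_inv_cancel_right] at h1
      have h5 : z ^ 2 = 1 := by rw [pow_two]; nth_rewrite 1 [← h4]; rw [inv_mul_cancel]
      have := Nat.le_of_dvd two_pos (hz ▸ orderOf_dvd_of_pow_eq_one h5)
      have := hq.two_le
      omega
    · exfalso
      obtain ⟨h, hh⟩ : ∃ h, h = k' * B.e ^ (q - 1) := ⟨_, rfl⟩
      rw [← hh] at hjz
      have hhρ : h * ρ * h⁻¹ ∈ zpowers ρ := by
        have hn : h ∈ normalizer (B.R : Set G) := hh ▸ mul_mem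
          (centralizer_le_normalizer _ (hKle hk')) (pow_mem (B.B_normR B.e_mem) _)
        exact hRz ▸ (mem_normalizer_iff.1 hn ρ).1 hρR
      have hcop : ¬ (M.r - 1).Coprime (orderOf h) := fun hc => by
        obtain ⟨u, hu⟩ := exists_pow_eq_self_of_coprime (x := h) hc
        have h1 : Commute ρ h := hu ▸ (pow_commute_prime hρ hhρ).pow_right u
        refine hdiv (B.e_pow (q - 1) fun x hx => ?_)
        have h2 : Commute ρ (B.e ^ (q - 1)) := by
          have h3 := hk'ρ.inv_right.mul_right h1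
          rwa [hh, inv_mul_cancel_left] at h3
        have h4 := mem_centralizer_iff.1 (hfix _ h2) x hx
        rw [← h4, mul_inv_cancel_right]
      obtain ⟨s, hs, hsr1, hsh⟩ := Nat.Prime.not_coprime_iff_dvd.1 hcop
      have hs' : s = 2 ∨ s ∣ M.T' := by
        have e1 := M.hT'
        rw [hη] at e1
        have h4 : M.r - 1 = 2 ^ (D.n - 1) * M.T' := by
          have : (((2 ^ (D.n - 1) * M.T' + 1 : ℕ)) : ℤ) = ((M.r : ℕ) : ℤ) := by push_cast; linarith
          have := Nat.cast_injective this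
          omega
        rw [h4] at hsr1
        rcases hs.dvd_mul.1 hsr1 with h5 | h5
        · exact Or.inl ((Nat.prime_dvd_prime_iff_eq hs Nat.prime_two).1 (hs.dvd_of_dvd_pow h5))
        · exact Or.inr h5
      have hsC : s ∣ Nat.card (centralizer ({D.t} : Set G)) := by
        rcases hs' with rfl | h5
        · exact two_dvd_ct hF
        · exact h5.trans (T'_dvd_ct hF)
      refine cent_small hF hs hsC (fun e => ?_) (orderOf_pow_orderOf_div (orderOf_pos h).ne' hsh)
        hq hqC ?_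
      · have := Nat.le_of_dvd (by omega) hsr1
        omega
      · exact hz ▸ Subgroup.orderOf_dvd_natCard _ (mem_cent_of_commute (hjz.symm.pow_left _))

/-- Elements of `2`-power order above two centralise no element of order three. -/
theorem three_prime (u : G) (hu : ∃ k : ℕ, 2 ≤ k ∧ orderOf u = 2 ^ k) :
    ¬ 3 ∣ Nat.card (centralizer ({u} : Set G)) := by
  classical
  intro h3
  haveI := Fact.mk Nat.prime_three
  haveI := Fact.mk Nat.prime_two
  obtain ⟨k, hk, huk⟩ := hu
  obtain ⟨⟨z, hzu⟩, hz⟩ := exists_prime_orderOf_dvd_card' 3 h3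
  rw [Subgroup.orderOf_mk] at hz
  obtain ⟨w, hw⟩ := exists_prime_orderOf_dvd_card' 3 (M.card_W.symm ▸ hF.T_three : 3 ∣ Nat.card M.W)
  have hw' : orderOf (w : G) = 3 := by rw [Subgroup.orderOf_coe, hw]
  obtain ⟨P, hzP⟩ := exists_sylow_mem hz
  obtain ⟨Q, hwQ⟩ := exists_sylow_mem hw'
  obtain ⟨g, hg⟩ := MulAction.exists_smul_eq G P Q
  haveI := D.hyp.odd 3 Nat.prime_three (by norm_num) Q
  have hgz : g * z * g⁻¹ ∈ (Q : Subgroup G) := by
    rw [← hg]
    exact Subgroup.smul_mem_pointwise_smul _ (MulAut.conj g) _ hzP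
  have hzw : (w : G) ∈ zpowers (g * z * g⁻¹) := by
    rw [zpowers_eq_of_cyclic hgz hwQ (by rw [orderOf_conj_eq, hz, hw'])]
    exact mem_zpowers _
  obtain ⟨j, hj⟩ := mem_zpowers_iff.1 hzw
  obtain ⟨u4, hu4C, hu4⟩ : ∃ u4 ∈ centralizer ({(w : G)} : Set G), orderOf u4 = 2 ^ 2 := by
    refine ⟨g * u ^ 2 ^ (k - 2) * g⁻¹, mem_cent_of_commute ?_, ?_⟩
    · rw [← hj]
      refine Commute.zpow_left ?_ j
      have h := ((commute_of_mem_cent hzu).symm.pow_right (2 ^ (k - 2)))
      show g * z * g⁻¹ * (g * u ^ 2 ^ (k - 2) * g⁻¹) = g * u ^ 2 ^ (k - 2) * g⁻¹ * (g * z * g⁻¹)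
      calc g * z * g⁻¹ * (g * u ^ 2 ^ (k - 2) * g⁻¹) = g * (z * u ^ 2 ^ (k - 2)) * g⁻¹ := by group
        _ = g * (u ^ 2 ^ (k - 2) * z) * g⁻¹ := by rw [h.eq]
        _ = _ := by group
    · rw [orderOf_conj_eq, orderOf_pow_of_dvd (by positivity) (huk ▸ pow_dvd_pow 2 (by omega)), huk,
        Nat.pow_div (by omega) two_pos, show k - (k - 2) = 2 by omega]
  let H := centralizer ({(w : G)} : Set G)
  have hcard : Nat.card H = 12 * M.T := hF.card_cd w w.2 (hw'.symm ▸ Nat.prime_three)
  have hfac : (Nat.card H).factorization 2 = 2 := by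
    rw [hcard, show 12 = 2 ^ 2 * 3 by norm_num, mul_assoc,
      Nat.factorization_mul (by norm_num) (mul_ne_zero (by norm_num) M.T_odd.pos.ne'),
      Finsupp.add_apply, Nat.Prime.factorization_pow Nat.prime_two, Finsupp.single_eq_same,
      Nat.factorization_eq_zero_of_not_dvd (fun h => by
        rcases Nat.prime_two.dvd_mul.1 h with h | h
        · norm_num at h
        · exact M.T_odd.not_two_dvd_nat h), add_zero]
  let P4 : Sylow 2 H := Sylow.ofCard (zpowers (⟨u4, hu4C⟩ : H))
    (by rw [Nat.card_zpowers, Subgroup.orderOf_mk, hu4, hfac])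
  have hwK : (w : G) ∈ centralizer ({D.t} : Set G) := D.K_le (M.W_le w.2)
  have htH : D.t ∈ H := mem_cent_of_commute (commute_of_mem_cent hwK).symm
  have hyH : (D.y : G) ∈ H := mem_cent_of_commute (M.W_ty w w.2).symm
  have hty : Commute (⟨D.t, htH⟩ : H) ⟨(D.y : G), hyH⟩ :=
    Subtype.ext (commute_of_mem_cent (D.S_le D.y.2)).eq
  have hyord : orderOf (⟨(D.y : G), hyH⟩ : H) = 2 := by
    rw [Subgroup.orderOf_mk, Subgroup.orderOf_coe, D.qd.ordy]
  have htord : orderOf (⟨D.t, htH⟩ : H) = 2 := by rw [Subgroup.orderOf_mk, D.t_ord]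
  have hV : IsPGroup 2 (zpowers (⟨D.t, htH⟩ : H) ⊔ zpowers ⟨(D.y : G), hyH⟩ : Subgroup H) := by
    refine (IsPGroup.of_card (n := 1) (by rw [Nat.card_zpowers, htord, pow_one])).to_sup_of_normal_right'
      (IsPGroup.of_card (n := 1) (by rw [Nat.card_zpowers, hyord, pow_one])) ?_
    rw [zpowers_le]
    refine H82.mem_normalizer_of_map_le ?_
    rw [MonoidHom.map_zpowers, zpowers_le]
    show (⟨D.t, htH⟩ : H) * ⟨(D.y : G), hyH⟩ * (⟨D.t, htH⟩ : H)⁻¹ ∈ zpowers _
    rw [hty.eq, mul_inv_cancel_right]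
    exact mem_zpowers _
  obtain ⟨Q4, hQ4⟩ := hV.exists_le_sylow
  haveI : IsCyclic (P4 : Subgroup H) := by
    change IsCyclic (zpowers (⟨u4, hu4C⟩ : H))
    infer_instance
  haveI : IsCyclic (Q4 : Subgroup H) := isCyclic_of_surjective (P4.equiv Q4) (P4.equiv Q4).surjective
  have heq := eq_of_invol_cyclic (P := (Q4 : Subgroup H)) (hQ4 (mem_sup_left (mem_zpowers _)))
    (hQ4 (mem_sup_right (mem_zpowers _))) htord hyord
  have hyt : (D.x : G) ^ 2 ^ (D.n - 1) = (D.y : G) := D.t_eq ▸ congrArg Subtype.val heq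
  have hyx : D.y = D.x ^ 2 ^ (D.n - 1) := Subtype.ext (by rw [← hyt, Subgroup.coe_pow])
  have hrel := D.qd.rel
  rw [hyx, (Commute.pow_self D.x _).eq, mul_inv_cancel_right] at hrel
  have hn := D.qd.three_le
  obtain ⟨m, hm⟩ : ∃ m, D.n = m + 3 := ⟨D.n - 3, by omega⟩
  have hmod : 2 ^ (D.n - 1) - 1 ≡ 1 [MOD 2 ^ D.n] :=
    D.qd.ordx ▸ pow_eq_pow_iff_modEq.1 (by rw [pow_one]; exact hrel.symm)
  rw [hm, show m + 3 - 1 = m + 2 by omega, Nat.ModEq,
    Nat.mod_eq_of_lt (by have := Nat.two_pow_pos (m + 2); rw [pow_succ 2 (m + 2)]; omega),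
    Nat.mod_eq_of_lt (Nat.one_lt_two_pow (by omega))] at hmod
  have : 4 ≤ 2 ^ (m + 2) := by
    calc 4 = 2 ^ 2 := by norm_num
      _ ≤ _ := Nat.pow_le_pow_right two_pos (by omega)
  omega

end Torus

/-- `H70.CSy.LateStmt`. -/
theorem late : H70.CSy.LateStmt.{u} := by
  intro G _ _ D M hF
  classical
  haveI : Fintype G := Fintype.ofFinite G
  obtain ⟨R, M', hR, hRt, hcR, hvr, hinv, hM'⟩ := cent_r hF
  haveI := Fact.mk M.hr
  have hr5 := M.hr5
  have hCG : Nat.card (centralizer ({D.t} : Set G)) ∣ Nat.card G := card_subgroup_dvd_card _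
  refine ⟨three_prime hF, fun q hq hq2 hq3 hqd => ?_, ?_, fun g q hq hqC hL hqg => ?_⟩
  · haveI := Fact.mk hq
    refine le_antisymm ?_ ((Nat.factorization_le_iff_dvd Nat.card_pos.ne' Nat.card_pos.ne').2 hCG q)
    have hqC : q ∣ Nat.card (centralizer ({D.t} : Set G)) := by
      rw [M.card_ct]
      exact (hqd.trans (by rw [mul_assoc]; exact dvd_mul_left _ 2)).mul_right _
    rcases dvd_ct_cases hF hq hqC with h | h | h | h
    · exact absurd h hq2
    · subst h
      rw [hvr]
      exact hq.factorization_pos_of_dvd Nat.card_pos.ne' hqC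
    · obtain ⟨a, ha⟩ := exists_prime_orderOf_dvd_card' q (h.trans ((T_dvd_ct hF).trans hCG))
      refine (factorization_le_cent D.hyp.odd hq2 ha).trans ?_
      rw [cent_T hF hq h ha, Nat.factorization_mul (by norm_num) M.T_odd.pos.ne', Finsupp.add_apply,
        Nat.factorization_eq_zero_of_not_dvd (fun h12 => by
          rw [show 12 = 2 ^ 2 * 3 by norm_num] at h12
          rcases hq.dvd_mul.1 h12 with h12 | h12
          · exact hq2 ((Nat.prime_dvd_prime_iff_eq hq Nat.prime_two).1 (hq.dvd_of_dvd_pow h12))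
          · exact hq3 ((Nat.prime_dvd_prime_iff_eq hq Nat.prime_three).1 h12)), zero_add]
      exact (Nat.factorization_le_iff_dvd M.T_odd.pos.ne' Nat.card_pos.ne').2 (T_dvd_ct hF) q
    · obtain ⟨a, ha⟩ := exists_prime_orderOf_dvd_card' q (h.trans ((T'_dvd_ct hF).trans hCG))
      exact (factorization_le_cent D.hyp.odd hq2 ha).trans (cent_T' hF hq h ha).2
  · obtain ⟨m, hm⟩ := hCG
    have hR1 : M' ∣ m := by
      have hcop : Nat.Coprime M' (Nat.card (centralizer ({D.t} : Set G))) :=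
        Nat.coprime_of_dvd fun q hq h1 h2 => (hM' q hq h1).1 h2
      refine hcop.dvd_of_dvd_mul_left (hm ▸ ?_)
      obtain ⟨a, ha⟩ := exists_prime_orderOf_dvd_card' M.r
        (hR ▸ card_subgroup_dvd_card R : M.r ∣ Nat.card G)
      exact (dvd_mul_left M' (2 * M.r)).trans (hcR a ha ▸ card_subgroup_dvd_card _)
    refine ⟨m, M', hm, ?_, hR1, hM'⟩
    -- `R` permutes the involutions
    letI : MulAction R {s : G // orderOf s = 2} :=
      { smul := fun x s => ⟨(x : G) * s * (x : G)⁻¹, (orderOf_conj_eq _ _).trans s.2⟩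
        one_smul := fun s => Subtype.ext (show ((1 : R) : G) * s * ((1 : R) : G)⁻¹ = s by simp)
        mul_smul := fun x y s => Subtype.ext (by
          show ((x * y : R) : G) * s * ((x * y : R) : G)⁻¹ =
            (x : G) * ((y : G) * s * (y : G)⁻¹) * (x : G)⁻¹
          push_cast
          group) }
    have hRp : IsPGroup M.r R := IsPGroup.of_card (n := 1) (by rw [hR, pow_one])
    have hmod := hRp.card_modEq_card_fixedPoints {s : G // orderOf s = 2}
    have hfix : Nat.card (MulAction.fixedPoints R {s : G // orderOf s = 2}) = M' := by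
      rw [← hinv]
      refine Nat.card_congr
        { toFun := fun s => ⟨s.1.1, s.1.2, mem_centralizer_iff.2 fun x hx => ?_⟩
          invFun := fun s => ⟨⟨s.1, s.2.1⟩, fun x => Subtype.ext ?_⟩
          left_inv := fun s => rfl
          right_inv := fun s => rfl }
      · have := congrArg Subtype.val (s.2 ⟨x, hx⟩)
        exact mul_inv_eq_iff_eq_mul.1 this
      · show (x : G) * s.1 * (x : G)⁻¹ = s.1
        rw [mem_centralizer_iff.1 s.2.2 x x.2, mul_inv_cancel_right]
    have hall : Nat.card {s : G // orderOf s = 2} = m := by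
      have hcls := H12.card_conjClass_mul_card_centralizer (G := G) D.t
      rw [hm, mul_comm] at hcls
      rw [← Nat.eq_of_mul_eq_mul_left Nat.card_pos hcls, ← Nat.card_eq_finsetCard]
      refine Nat.card_congr (Equiv.subtypeEquivRight fun s => ?_)
      simp only [Finset.mem_filter, Finset.mem_univ, true_and]
      refine ⟨fun hs => D.one s hs, fun hs => ?_⟩
      obtain ⟨x, rfl⟩ := isConj_iff.1 hs
      rw [orderOf_conj_eq, D.t_ord]
    rw [hall, hfix] at hmod
    exact hmod
  · haveI := Fact.mk hq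
    refine Nat.coprime_of_dvd fun s hs hsg hsC => ?_
    haveI := Fact.mk hs
    have h0 := (orderOf_pos g).ne'
    have ha := orderOf_pow_orderOf_div h0 hsg
    have hb := orderOf_pow_orderOf_div h0 hqg
    have hqa : q ∣ Nat.card (centralizer ({g ^ (orderOf g / s)} : Set G)) :=
      hb ▸ Subgroup.orderOf_dvd_natCard _ (mem_cent_of_commute (Commute.pow_pow_self g _ _))
    by_cases hsr : s = M.r
    · rw [hcR _ (ha.trans hsr)] at hqa
      rcases hq.dvd_mul.1 hqa with h | h
      · rcases hq.dvd_mul.1 h with h | h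
        · exact hqC ((Nat.prime_dvd_prime_iff_eq hq Nat.prime_two).1 h ▸ two_dvd_ct hF)
        · exact hqC ((Nat.prime_dvd_prime_iff_eq hq M.hr).1 h ▸ hsr ▸ hsC)
      · exact hL (hM' q hq h).2
    · exact cent_small hF hs hsC hsr ha hq hqC hqa

end H61.CSy
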