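import Cfsg.Agent.H70.CSy.Tools
import Cfsg.Agent.H8.Coprime

/-!
Tools for the last local facts of the torus case of S4069: centralizers of elements of odd prime
order, cyclic Sylow 2-subgroups, involutions on cyclic groups.
-/

set_option autoImplicit false
set_option linter.unusedSectionVars false
set_option linter.style.haveILetI false

open Cfsg Subgroup

namespace H61.CSy

universe u

variable {G : Type u} [Group G] [Finite G]

theorem commute_of_mem_cent {a g : G} (h : g ∈ centralizer ({a} : Set G)) : Commute a g :=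
  (mem_centralizer_singleton_iff.1 h).symm

theorem mem_cent_of_commute {a g : G} (h : Commute a g) : g ∈ centralizer ({a} : Set G) :=
  mem_centralizer_singleton_iff.2 h.eq.symm

theorem card_cent_conj (a g : G) :
    Nat.card (centralizer ({g * a * g⁻¹} : Set G)) = Nat.card (centralizer ({a} : Set G)) := by
  refine (Nat.card_congr ((MulAut.conj g).toEquiv.subtypeEquiv fun x => ?_)).symm
  simp only [mem_centralizer_singleton_iff, MulEquiv.toEquiv_eq_coe, MulEquiv.coe_toEquiv,
    MulAut.conj_apply]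
  constructor
  · intro h
    calc g * x * g⁻¹ * (g * a * g⁻¹) = g * (x * a) * g⁻¹ := by group
      _ = g * (a * x) * g⁻¹ := by rw [h]
      _ = g * a * g⁻¹ * (g * x * g⁻¹) := by group
  · intro h
    calc x * a = g⁻¹ * (g * x * g⁻¹ * (g * a * g⁻¹)) * g := by group
      _ = g⁻¹ * (g * a * g⁻¹ * (g * x * g⁻¹)) * g := by rw [h]
      _ = a * x := by group

theorem exists_sylow_mem {p : ℕ} [Fact p.Prime] {a : G} (ha : orderOf a = p) :
    ∃ P : Sylow p G, a ∈ (P : Subgroup G) := by
  have h : IsPGroup p (zpowers a) := IsPGroup.of_card (n := 1) (by rw [Nat.card_zpowers, ha, pow_one])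
  obtain ⟨P, hP⟩ := h.exists_le_sylow
  exact ⟨P, hP (mem_zpowers a)⟩

/-- Elements of the same odd prime order have centralisers of the same order. -/
theorem cent_card_eq (hodd : H76.CSy.OddCyclic G) {p : ℕ} [hp : Fact p.Prime] (hp2 : p ≠ 2)
    {a b : G} (ha : orderOf a = p) (hb : orderOf b = p) :
    Nat.card (centralizer ({a} : Set G)) = Nat.card (centralizer ({b} : Set G)) := by
  obtain ⟨P, haP⟩ := exists_sylow_mem ha
  obtain ⟨Q, hbQ⟩ := exists_sylow_mem hb
  obtain ⟨g, hg⟩ := MulAction.exists_smul_eq G P Q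
  have ha' : g * a * g⁻¹ ∈ (Q : Subgroup G) := by
    rw [← hg]
    exact Subgroup.smul_mem_pointwise_smul _ (MulAut.conj g) _ haP
  rw [← card_cent_conj a g]
  have hQ := hodd p hp.out hp2 Q
  have ho : orderOf (g * a * g⁻¹) = p := ((MulAut.conj g).orderOf_eq a).trans ha
  have heq := H70.CSy.cyclic_eq_of_card (A := ↥(Q : Subgroup G))
    (zpowers (⟨g * a * g⁻¹, ha'⟩ : ↥(Q : Subgroup G))) (zpowers ⟨b, hbQ⟩)
    (by rw [Nat.card_zpowers, Nat.card_zpowers, Subgroup.orderOf_mk, Subgroup.orderOf_mk, ho, hb])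
  have h : zpowers (g * a * g⁻¹) = zpowers b := by
    have := congrArg (Subgroup.map (Q : Subgroup G).subtype) heq
    rwa [MonoidHom.map_zpowers, MonoidHom.map_zpowers] at this
  rw [← centralizer_closure ({g * a * g⁻¹} : Set G), ← centralizer_closure ({b} : Set G),
    ← zpowers_eq_closure, ← zpowers_eq_closure, h]

/-- The centraliser of an element of odd prime order contains a Sylow subgroup for that prime. -/
theorem factorization_le_cent (hodd : H76.CSy.OddCyclic G) {p : ℕ} [hp : Fact p.Prime]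
    (hp2 : p ≠ 2) {a : G} (ha : orderOf a = p) :
    (Nat.card G).factorization p ≤ (Nat.card (centralizer ({a} : Set G))).factorization p := by
  obtain ⟨P, haP⟩ := exists_sylow_mem ha
  have := hodd p hp.out hp2 P
  have hle : (P : Subgroup G) ≤ centralizer ({a} : Set G) := fun x hx =>
    mem_cent_of_commute (show a * x = x * a from
      congrArg Subtype.val (mul_comm' (⟨a, haP⟩ : (P : Subgroup G)) ⟨x, hx⟩))
  have := card_dvd_of_le hle
  rw [P.card_eq_multiplicity] at this
  exact (hp.out.pow_dvd_iff_le_factorization Nat.card_pos.ne').1 this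

/-- An involution centralising a cyclic subgroup of index prime to two in its centraliser in `H`:
the subgroup is a Sylow 2-subgroup of `H`. -/
theorem two_part_eq {H : Subgroup G} {c t : G} {k : ℕ} (hk : 1 ≤ k) (hc : c ∈ H)
    (hord : orderOf c = 2 ^ k) (ht : c ^ 2 ^ (k - 1) = t)
    (h : ¬ 2 ^ (k + 1) ∣ Nat.card (H ⊓ centralizer ({t} : Set G) : Subgroup G)) :
    (Nat.card H).factorization 2 = k := by
  classical
  haveI := Fact.mk Nat.prime_two
  have hcard : Nat.card (zpowers (⟨c, hc⟩ : H)) = 2 ^ k := by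
    rw [Nat.card_zpowers, Subgroup.orderOf_mk, hord]
  refine le_antisymm ?_ ((Nat.prime_two.pow_dvd_iff_le_factorization Nat.card_pos.ne').1
    (hcard ▸ card_subgroup_dvd_card _))
  by_contra hlt
  obtain ⟨Q, hQ, hle⟩ := Sylow.exists_subgroup_card_pow_succ
    ((Nat.prime_two.pow_dvd_iff_le_factorization Nat.card_pos.ne').2 (by omega)) hcard
  have hn : ((zpowers (⟨c, hc⟩ : H)).subgroupOf Q).Normal := by
    refine normal_of_index_eq_two ?_
    have h1 := ((zpowers (⟨c, hc⟩ : H)).subgroupOf Q).card_mul_index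
    rw [Nat.card_congr (subgroupOfEquivOfLe hle).toEquiv, hcard, hQ, pow_succ] at h1
    exact Nat.eq_of_mul_eq_mul_left (by positivity) h1
  apply h
  have hmem : Q.map H.subtype ≤ H ⊓ centralizer ({t} : Set G) := by
    rintro _ ⟨g, hg, rfl⟩
    refine ⟨g.2, mem_cent_of_commute ?_⟩
    have hcQ : (⟨c, hc⟩ : H) ^ 2 ^ (k - 1) ∈ zpowers (⟨c, hc⟩ : H) := pow_mem (mem_zpowers _) _
    have hconj : g * (⟨c, hc⟩ : H) ^ 2 ^ (k - 1) * g⁻¹ ∈ zpowers (⟨c, hc⟩ : H) :=
      hn.conj_mem ⟨_, hle hcQ⟩ hcQ ⟨g, hg⟩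
    obtain ⟨i, hi⟩ := mem_zpowers_iff.1 hconj
    have hi' : c ^ i = (g : G) * t * (g : G)⁻¹ := by
      rw [← ht]
      simpa using congrArg Subtype.val hi
    -- the subgroup of order two of a cyclic group is unique
    have h2 : orderOf t = 2 := by
      rw [← ht, orderOf_pow_of_dvd (by positivity) (hord ▸ pow_dvd_pow 2 (by omega)), hord,
        Nat.pow_div (by omega) two_pos, show k - (k - 1) = 1 by omega, pow_one]
    have hz := H70.CSy.cyclic_eq_of_card (A := zpowers c)
      (zpowers ⟨(g : G) * t * (g : G)⁻¹, hi' ▸ zpow_mem (mem_zpowers c) i⟩)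
      (zpowers ⟨t, ht ▸ pow_mem (mem_zpowers c) _⟩)
      (by rw [Nat.card_zpowers, Nat.card_zpowers, Subgroup.orderOf_mk, Subgroup.orderOf_mk,
        ← MulAut.conj_apply, MulEquiv.orderOf_eq])
    have hmem2 : (g : G) * t * (g : G)⁻¹ ∈ zpowers t := by
      have := congrArg (Subgroup.map (zpowers c).subtype) hz
      rw [MonoidHom.map_zpowers, MonoidHom.map_zpowers] at this
      exact this ▸ mem_zpowers _
    obtain ⟨j, hj, hj'⟩ : ∃ j < 2, t ^ j = (g : G) * t * (g : G)⁻¹ := by
      rw [mem_zpowers_iff_mem_range_orderOf, Finset.mem_image] at hmem2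
      obtain ⟨j, hj, hj'⟩ := hmem2
      exact ⟨j, by rwa [Finset.mem_range, h2] at hj, hj'⟩
    interval_cases j
    · have ht1 : t = 1 := by
        have := congrArg (fun x => (g : G)⁻¹ * x * g) hj'.symm
        simpa [mul_assoc] using this
      rw [ht1, orderOf_one] at h2
      norm_num at h2
    · rw [pow_one] at hj'
      show t * (g : G) = (g : G) * t
      conv_lhs => rw [hj']
      group
  have := card_dvd_of_le hmem
  rwa [card_map_of_injective H.subtype_injective, hQ] at this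

/-- The odd elements of a group with a cyclic Sylow 2-subgroup form a subgroup. -/
theorem two_complement {H : Subgroup G} {c : G} {k : ℕ} (hk : 1 ≤ k) (hc : c ∈ H)
    (hord : orderOf c = 2 ^ k) (hv : (Nat.card H).factorization 2 = k) :
    ∃ K : Subgroup G, K ≤ H ∧ (∀ g ∈ H, (g ∈ K ↔ Odd (orderOf g))) ∧
      Nat.card H = 2 ^ k * Nat.card K ∧ Odd (Nat.card K) := by
  classical
  haveI := Fact.mk Nat.prime_two
  let P : Sylow 2 H := Sylow.ofCard (zpowers (⟨c, hc⟩ : H))
    (by rw [Nat.card_zpowers, Subgroup.orderOf_mk, hord, hv])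
  have hPc : Nat.card (P : Subgroup H) = 2 ^ k := by rw [P.card_eq_multiplicity, hv]
  haveI : IsCyclic (P : Subgroup H) := by
    change IsCyclic (zpowers (⟨c, hc⟩ : H))
    infer_instance
  have hmin : (Nat.card H).minFac = 2 := by
    rw [Nat.minFac_eq_two_iff]
    exact (dvd_pow_self 2 (by omega : k ≠ 0)).trans (hPc ▸ card_subgroup_dvd_card _)
  have hNC := IsCyclic.normalizer_le_centralizer hmin (P := P) inferInstance
  have hnd := MonoidHom.not_dvd_card_ker_transferSylow P hNC
  have hcompl := MonoidHom.ker_transferSylow_isComplement' P hNC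
  let f := MonoidHom.transferSylow P hNC
  refine ⟨f.ker.map H.subtype, map_subtype_le _, fun g hg => ⟨?_, fun ho => ?_⟩, ?_, ?_⟩
  · rintro ⟨x, hx, rfl⟩
    rw [coe_subtype, Subgroup.orderOf_coe]
    exact Nat.odd_iff.2 (Nat.two_dvd_ne_zero.1 fun h2 =>
      hnd (h2.trans (Subgroup.orderOf_dvd_natCard _ hx)))
  · refine ⟨⟨g, hg⟩, ?_, rfl⟩
    rw [SetLike.mem_coe, MonoidHom.mem_ker, ← orderOf_eq_one_iff]
    have h1 : orderOf (f ⟨g, hg⟩) ∣ orderOf g := by
      rw [← Subgroup.orderOf_mk g hg]; exact orderOf_map_dvd f _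
    have h2 : orderOf (f ⟨g, hg⟩) ∣ 2 ^ k := hPc ▸ orderOf_dvd_natCard _
    exact Nat.eq_one_of_dvd_coprimes ((Nat.coprime_two_left.2 ho).pow_left k) h2 h1
  · rw [card_map_of_injective H.subtype_injective, ← hcompl.card_mul, hPc, mul_comm]
  · rw [card_map_of_injective H.subtype_injective]
    exact Nat.odd_iff.2 (Nat.two_dvd_ne_zero.1 hnd)

/-- An involution acting on a cyclic group of odd prime power order fixes or inverts it. -/
theorem invol_cyclic {q : ℕ} [hq : Fact q.Prime] (hq2 : q ≠ 2) {P : Subgroup G} [hc : IsCyclic P]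
    (hP : IsPGroup q P) {t : G} (ht : t * t = 1) (hn : t ∈ normalizer (P : Set G)) :
    (∀ x ∈ P, Commute t x) ∨ ∀ x ∈ P, t * x * t⁻¹ = x⁻¹ := by
  obtain ⟨⟨a, ha⟩, hgen⟩ := IsCyclic.exists_generator (α := P)
  have hz : ∀ x ∈ P, ∃ i : ℤ, a ^ i = x := fun x hx => by
    obtain ⟨i, hi⟩ := mem_zpowers_iff.1 (hgen ⟨x, hx⟩)
    exact ⟨i, congrArg Subtype.val hi⟩
  obtain ⟨m, hm⟩ := hz _ ((mem_normalizer_iff.1 hn a).1 ha)
  have hti : t⁻¹ = t := inv_eq_of_mul_eq_one_right ht
  have hmm : a ^ (m * m - 1) = 1 := by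
    rw [zpow_sub, zpow_one, zpow_mul, hm, conj_zpow, hm, hti]
    calc t * (t * a * t) * t * a⁻¹ = (t * t) * a * (t * t) * a⁻¹ := by group
      _ = 1 := by rw [ht]; group
  obtain ⟨k, hk⟩ := IsPGroup.iff_orderOf.1 hP ⟨a, ha⟩
  rw [Subgroup.orderOf_mk] at hk
  rw [← orderOf_dvd_iff_zpow_eq_one, hk, show m * m - 1 = (m - 1) * (m + 1) by ring] at hmm
  push_cast at hmm
  have hpr := Nat.prime_iff_prime_int.1 hq.out
  by_cases h1 : (q : ℤ) ∣ m - 1
  · left
    have h2 : ¬ (q : ℤ) ∣ m + 1 := fun h => by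
      have h3 := Int.dvd_sub h h1
      rw [show m + 1 - (m - 1) = 2 by ring] at h3
      have h4 := Nat.le_of_dvd two_pos (Int.natCast_dvd.1 h3)
      have := hq.out.two_le
      omega
    have h3 : ((q : ℤ) ^ k) ∣ m - 1 :=
      ((hpr.coprime_iff_not_dvd.2 h2).pow_left).dvd_of_dvd_mul_right hmm
    have h4 : a ^ (m - 1) = 1 := by
      rw [← orderOf_dvd_iff_zpow_eq_one, hk]; push_cast; exact h3
    rw [zpow_sub, zpow_one, mul_inv_eq_one, hm, mul_inv_eq_iff_eq_mul] at h4
    intro x hx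
    obtain ⟨i, rfl⟩ := hz x hx
    exact Commute.zpow_right h4 i
  · right
    have h3 : ((q : ℤ) ^ k) ∣ m + 1 :=
      ((hpr.coprime_iff_not_dvd.2 h1).pow_left).dvd_of_dvd_mul_left hmm
    have h4 : a ^ (m + 1) = 1 := by
      rw [← orderOf_dvd_iff_zpow_eq_one, hk]; push_cast; exact h3
    rw [zpow_add, zpow_one, hm, ← eq_inv_iff_mul_eq_one] at h4
    intro x hx
    obtain ⟨i, rfl⟩ := hz x hx
    rw [← conj_zpow, h4, inv_zpow]

/-- A cyclic 2-group has one involution. -/
theorem eq_of_invol_cyclic {P : Subgroup G} [IsCyclic P] {a b : G} (ha : a ∈ P) (hb : b ∈ P)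
    (ha2 : orderOf a = 2) (hb2 : orderOf b = 2) : a = b := by
  have hz := H70.CSy.cyclic_eq_of_card (A := P) (zpowers ⟨a, ha⟩) (zpowers ⟨b, hb⟩)
    (by rw [Nat.card_zpowers, Nat.card_zpowers, Subgroup.orderOf_mk, Subgroup.orderOf_mk, ha2, hb2])
  have h := congrArg (Subgroup.map P.subtype) hz
  rw [MonoidHom.map_zpowers, MonoidHom.map_zpowers] at h
  have hmem : a ∈ zpowers b := h ▸ mem_zpowers a
  classical
  rw [mem_zpowers_iff_mem_range_orderOf, Finset.mem_image] at hmem
  obtain ⟨j, hj, rfl⟩ := hmem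
  rw [Finset.mem_range, hb2] at hj
  interval_cases j
  · simp at ha2
  · exact pow_one b

theorem conj_mem_cent {a g : G} (h : g * a * g⁻¹ = a ∨ g * a * g⁻¹ = a⁻¹) :
    g ∈ normalizer ((centralizer ({a} : Set G) : Subgroup G) : Set G) := by
  have key : ∀ x : G, Commute a x → Commute a (g * x * g⁻¹) := by
    intro x hx
    rcases h with h | h
    · conv => arg 1; rw [← h]
      show g * a * g⁻¹ * (g * x * g⁻¹) = g * x * g⁻¹ * (g * a * g⁻¹)
      calc g * a * g⁻¹ * (g * x * g⁻¹) = g * (a * x) * g⁻¹ := by group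
        _ = g * (x * a) * g⁻¹ := by rw [hx.eq]
        _ = _ := by group
    · have h' : Commute a⁻¹ (g * x * g⁻¹) := by
        conv => arg 1; rw [← h]
        show g * a * g⁻¹ * (g * x * g⁻¹) = g * x * g⁻¹ * (g * a * g⁻¹)
        calc g * a * g⁻¹ * (g * x * g⁻¹) = g * (a * x) * g⁻¹ := by group
          _ = g * (x * a) * g⁻¹ := by rw [hx.eq]
          _ = _ := by group
      simpa using h'.inv_left
  refine H82.mem_normalizer_of_map_le ?_
  rintro _ ⟨x, hx, rfl⟩
  exact mem_cent_of_commute (key x (commute_of_mem_cent hx))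

/-- Conjugation by an element of the normalizer of `H` fixes the set of odd elements of `H`. -/
theorem conj_mem_complement {H K : Subgroup G} (hle : K ≤ H)
    (hK : ∀ g ∈ H, (g ∈ K ↔ Odd (orderOf g))) {A : Subgroup G}
    (hA : A ≤ normalizer (H : Set G)) : A ≤ normalizer (K : Set G) := by
  refine H8.le_normalizer_of_conj_mem fun a ha x hx => ?_
  refine (hK _ ((mem_normalizer_iff.1 (hA ha) x).1 (hle hx))).2 ?_
  rw [← MulAut.conj_apply, MulEquiv.orderOf_eq]
  exact (hK x (hle hx)).1 hx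

end H61.CSy
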