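import Mathlib.Tactic
import Mathlib.RingTheory.Coprime.Lemmas
import Mathlib.RingTheory.Int.Basic

/-!
The equation left by the semidihedral torus configuration of S4069.
-/

set_option autoImplicit false

namespace H61.CSy

theorem unit_cases {x : ℤ} (h : IsUnit x) : x = 1 ∨ x = -1 := Int.isUnit_iff.1 h

/-- A product of two numbers congruent to `1` and `c` modulo `L` is large. -/
theorem large_product {L q w c A : ℤ} (hL : 0 < L) (hc0 : 0 < c) (hcL : c < L) (hq : L ∣ q - 1)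
    (hq1 : 1 < q) (hA : L ∣ A - c) (hA0 : 0 < A) (hw : q * w = A) : (L + 1) * c ≤ A := by
  obtain ⟨i, hi⟩ := hq
  have hw0 : 0 < w := by nlinarith
  have hwc : L ∣ w - c := by
    obtain ⟨j, hj⟩ := hA
    exact ⟨j - i * w, by linear_combination hj + hw - w * hi⟩
  obtain ⟨j, hj⟩ := hwc
  have hi0 : 0 < i := by nlinarith
  have hj0 : 0 ≤ j := by nlinarith
  have h1 : L + 1 ≤ q := by nlinarith
  have h2 : c ≤ w := by nlinarith
  rw [← hw]
  exact mul_le_mul h1 h2 hc0.le (by omega)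

/-- The primes `≡ 1 (mod 2 (r - 1))` do not divide `(r² - 2)(r² - η r - 1)`. -/
theorem no_exceptional {r q : ℕ} {η : ℤ} (hr5 : 5 ≤ r) (hodd : Odd r) (hη : η = 1 ∨ η = -1)
    (hq : q.Prime) (hdiv : 2 * (r - 1) ∣ q - 1)
    (h : (q : ℤ) ∣ ((r : ℤ) ^ 2 - 2) * ((r : ℤ) ^ 2 - η * r - 1)) : False := by
  obtain ⟨j, hj⟩ := hodd
  have hj' : (r : ℤ) = 2 * (j : ℤ) + 1 := by exact_mod_cast hj
  have hj2 : (2 : ℤ) ≤ j := by omega
  obtain ⟨i, hi⟩ := hdiv
  have hq1 : (1 : ℤ) < q := by exact_mod_cast hq.one_lt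
  have hL : (4 * (j : ℤ)) ∣ (q : ℤ) - 1 := by
    refine ⟨i, ?_⟩
    have hq' : q = 4 * j * i + 1 := by
      rw [show 2 * (r - 1) = 4 * j by omega] at hi
      have := hq.one_lt
      omega
    rw [hq']
    push_cast
    ring
  rcases (Nat.prime_iff_prime_int.1 hq).dvd_mul.1 h with ⟨w, hw⟩ | ⟨w, hw⟩
  · have := large_product (L := 4 * (j : ℤ)) (c := 4 * (j : ℤ) - 1) (A := (r : ℤ) ^ 2 - 2)
      (by omega) (by omega) (by omega) hL hq1 ⟨(j : ℤ), by rw [hj']; ring⟩ (by rw [hj']; nlinarith)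
      hw.symm
    rw [hj'] at this
    nlinarith
  · rcases hη with rfl | rfl
    · have := large_product (L := 4 * (j : ℤ)) (c := 2 * (j : ℤ) - 1)
        (A := (r : ℤ) ^ 2 - 1 * (r : ℤ) - 1) (by omega) (by omega) (by omega) hL hq1
        ⟨(j : ℤ), by rw [hj']; ring⟩ (by rw [hj']; nlinarith) hw.symm
      rw [hj'] at this
      nlinarith
    · have := large_product (L := 4 * (j : ℤ)) (c := 2 * (j : ℤ) + 1)
        (A := (r : ℤ) ^ 2 - -1 * (r : ℤ) - 1) (by omega) (by omega) (by omega) hL hq1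
        ⟨(j : ℤ) + 1, by rw [hj']; ring⟩ (by rw [hj']; nlinarith) hw.symm
      rw [hj'] at this
      nlinarith

/-- The class count with `a = η r` and the coprimality of `m'` leaves only `r = 5`. -/
theorem torus_arith {r T T' n m' M : ℕ} {η b : ℤ} (hr : r.Prime) (hr5 : 5 ≤ r) (hn : 4 ≤ n)
    (hη : η = 1 ∨ η = -1) (hT : (r : ℤ) - η = 2 * (T : ℤ))
    (hT' : (r : ℤ) + η = 2 ^ (n - 2) * (T' : ℤ)) (hT3 : 3 ∣ T)
    (hb0 : b ≠ 0) (hb1 : b ≠ -1)
    (hcop : IsCoprime (m' : ℤ) ((r : ℤ) * ((r : ℤ) + η) * ((r : ℤ) - η)))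
    (hmodM : 3 * m' % r = M % r) (hMm : M ∣ m') (hrM : ¬ r ∣ m')
    (hexc : ∀ q : ℕ, q.Prime → q ∣ M → 2 * (r - 1) ∣ q - 1)
    (heq : (m' : ℤ) * (b - η * r) ^ 2 =
      (r : ℤ) * ((r : ℤ) + η) * ((r : ℤ) - η) ^ 2 * (b * (b + 1))) :
    r = 5 ∧ η = -1 ∧ m' = 667 ∧ n = 4 ∧ T = 3 := by
  obtain ⟨a, ha⟩ : ∃ a : ℤ, a = η * r := ⟨_, rfl⟩
  obtain ⟨k, hk⟩ : ∃ k : ℤ, k = (r : ℤ) - η := ⟨_, rfl⟩
  obtain ⟨E, hE⟩ : ∃ E : ℤ, E = (r : ℤ) * ((r : ℤ) + η) := ⟨_, rfl⟩
  have hη2 : η * η = 1 := by rcases hη with rfl | rfl <;> norm_num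
  have hr' : (5 : ℤ) ≤ r := by exact_mod_cast hr5
  have hk0 : k ≠ 0 := by rcases hη with rfl | rfl <;> omega
  have hrη : (r : ℤ) + η ≠ 0 := by rcases hη with rfl | rfl <;> omega
  have hE0 : E ≠ 0 := hE ▸ mul_ne_zero (by omega) hrη
  have hEa : E = a * (a + 1) := by
    rw [hE, ha]; linear_combination (-((r : ℤ) ^ 2)) * hη2
  rw [← hE, ← hk, ← ha] at heq
  rw [← hE, ← hk] at hcop
  have hkm : IsCoprime (m' : ℤ) k := hcop.of_mul_right_right
  have hEm : IsCoprime (m' : ℤ) E := hcop.of_mul_right_left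
  have hkd : k ∣ b - a := by
    have h1 : k ^ 2 ∣ (m' : ℤ) * (b - a) ^ 2 := ⟨E * (b * (b + 1)), by rw [heq]; ring⟩
    exact (Int.pow_dvd_pow_iff two_ne_zero).1 (hkm.symm.pow_left.dvd_of_dvd_mul_left h1)
  obtain ⟨d₁, hd₁⟩ := hkd
  have hb : b = a + k * d₁ := by linarith
  have h2 : (m' : ℤ) * d₁ ^ 2 = E * (b * (b + 1)) := by
    rw [hd₁] at heq
    apply mul_left_cancel₀ (pow_ne_zero 2 hk0)
    linear_combination heq
  have hd₁0 : d₁ ≠ 0 := by
    intro h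
    rw [h] at h2
    simp [hE0, hb0] at h2
    omega
  obtain ⟨g, e, f, hg, hef, hEg, hdg⟩ :=
    Int.exists_gcd_one' (m := E) (n := d₁) (Int.gcd_pos_of_ne_zero_left _ hE0)
  have hcef : IsCoprime e f := Int.isCoprime_iff_gcd_eq_one.2 hef
  have hg0 : (g : ℤ) ≠ 0 := by exact_mod_cast hg.ne'
  have h3 : (m' : ℤ) * f ^ 2 = e ^ 2 + (2 * a + 1) * k * e * f + (g : ℤ) * e * k ^ 2 * f ^ 2 := by
    apply mul_left_cancel₀ (pow_ne_zero 2 hg0)
    rw [hb, hdg] at h2
    linear_combination h2 + ((a + k * (f * g)) * (a + k * (f * g) + 1)) * hEg -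
      (e * g) * hEa + (e * g) * hEg
  have hf : IsUnit f := by
    refine (hcef.symm.pow_right (n := 2)).isUnit_of_dvd' dvd_rfl
      ⟨(m' : ℤ) * f - (2 * a + 1) * k * e - (g : ℤ) * e * k ^ 2 * f, ?_⟩
    linear_combination -h3
  have hf2 : f ^ 2 = 1 := by rcases unit_cases hf with rfl | rfl <;> norm_num
  have he : IsUnit e := by
    refine hEm.isUnit_of_dvd' ⟨e + (2 * a + 1) * k * f + (g : ℤ) * k ^ 2 * f ^ 2, ?_⟩ ⟨g, hEg⟩
    rw [hf2, mul_one] at h3
    rw [hf2]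
    linear_combination h3
  have hd₁E : d₁ = E ∨ d₁ = -E := by
    rcases unit_cases hf with rfl | rfl <;> rcases unit_cases he with rfl | rfl <;>
      first | (left; linarith) | (right; linarith)
  have h4 : (m' : ℤ) * E = b * (b + 1) := by
    rcases hd₁E with h | h <;> rw [h] at h2 <;>
      exact mul_left_cancel₀ hE0 (by linear_combination h2)
  have hkE : k * E = (r : ℤ) * ((r : ℤ) ^ 2 - 1) := by
    rw [hk, hE]; linear_combination (-(r : ℤ)) * hη2
  have hrm : ¬ (r : ℤ) ∣ (m' : ℤ) := by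
    rw [Int.natCast_dvd_natCast]
    exact hrM
  have hrn : ¬ (r : ℤ) ∣ (r : ℤ) + η := fun h => by
    have h1 : (r : ℤ) ∣ η := by simpa using Int.dvd_sub h dvd_rfl
    rcases hη with rfl | rfl
    · exact absurd (Int.le_of_dvd one_pos h1) (by omega)
    · exact absurd (Int.le_of_dvd one_pos (Int.dvd_neg.1 h1)) (by omega)
  have hpr : Prime (r : ℤ) := Nat.prime_iff_prime_int.1 hr
  have hm' : (m' : ℤ) = ((r : ℤ) ^ 2 - 2) * ((r : ℤ) ^ 2 - η * r - 1) := by
    have hcase : b = η * (r : ℤ) ^ 3 ∨ b = η * r * (2 - (r : ℤ) ^ 2) := by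
      have h5 : b = η * r + k * d₁ := by rw [hb, ha]
      rcases hη with rfl | rfl <;> rcases hd₁E with h | h <;> rw [h] at h5
      · left; linear_combination h5 + hkE
      · right; linear_combination h5 - hkE
      · right; linear_combination h5 + hkE
      · left; linear_combination h5 - hkE
    rcases hcase with h | h
    · exfalso
      rw [h, hE] at h4
      have h6 : (r : ℤ) ∣ (m' : ℤ) * ((r : ℤ) + η) := by
        refine ⟨(r : ℤ) * (η * (η * (r : ℤ) ^ 3 + 1)), ?_⟩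
        apply mul_left_cancel₀ (show (r : ℤ) ≠ 0 by omega)
        linear_combination h4
      rcases hpr.dvd_mul.1 h6 with h7 | h7
      · exact hrm h7
      · exact hrn h7
    · apply mul_right_cancel₀ hE0
      rw [h4, h, hE]
      linear_combination ((r : ℤ) ^ 2 * (2 - (r : ℤ) ^ 2) ^ 2 +
        ((r : ℤ) ^ 2 - 2) * (r : ℤ) ^ 2) * hη2
  have hM1 : M = 1 := by
    by_contra h
    obtain ⟨q, hq, hqM⟩ := Nat.exists_prime_and_dvd h
    exact no_exceptional hr5 (hr.odd_of_ne_two (by omega)) hη hq (hexc q hq hqM)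
      (hm' ▸ Int.natCast_dvd_natCast.2 (hqM.trans hMm))
  have hmod : 3 * m' % r = 1 := by
    rw [hmodM, hM1, Nat.one_mod_eq_one.2]
    omega
  have hr5' : r = 5 := by
    have h7 : (r : ℤ) ∣ 3 * (m' : ℤ) - 1 :=
      by
        obtain ⟨q, hq⟩ : ∃ q, 3 * m' = r * q + 1 :=
          ⟨3 * m' / r, by rw [← hmod]; exact (Nat.div_add_mod (3 * m') r).symm⟩
        refine ⟨(q : ℤ), ?_⟩
        have h' := congrArg (fun x : ℕ => (x : ℤ)) hq
        simp only [Nat.cast_mul, Nat.cast_add, Nat.cast_ofNat, Nat.cast_one] at h'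
        linarith
    have h8 : (r : ℤ) ∣ 5 := by
      have h9 := Int.dvd_sub h7
        (dvd_mul_right (r : ℤ) (3 * ((r : ℤ) ^ 3 - η * (r : ℤ) ^ 2 - 3 * r + 2 * η)))
      rw [hm'] at h9
      ring_nf at h9
      simpa using h9
    have h10 : r ∣ 5 := by exact_mod_cast h8
    exact ((Nat.prime_dvd_prime_iff_eq hr (by norm_num)).1 h10)
  subst hr5'
  rcases hη with rfl | rfl
  · exfalso
    have : T = 2 := by push_cast at hT; omega
    omega
  · have hT'' : T = 3 := by push_cast at hT; omega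
    have hn4 : n = 4 := by
      obtain ⟨j, rfl⟩ : ∃ j, n = j + 4 := ⟨n - 4, by omega⟩
      rcases Nat.eq_zero_or_pos j with rfl | hj
      · rfl
      · exfalso
        have h : 2 ^ (j + 4 - 2) * T' = 4 := by
          have : (((2 ^ (j + 4 - 2) * T') : ℕ) : ℤ) = ((4 : ℕ) : ℤ) := by push_cast at hT' ⊢; linarith
          exact_mod_cast this
        have h8 : 8 ∣ 2 ^ (j + 4 - 2) :=
          (show 8 = 2 ^ 3 by norm_num) ▸ pow_dvd_pow 2 (by omega)
        have := h ▸ h8.mul_right T'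
        norm_num at this
    refine ⟨rfl, rfl, ?_, hn4, hT''⟩
    have : (m' : ℤ) = 667 := by rw [hm']; norm_num
    exact_mod_cast this

end H61.CSy
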